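import Mathlib

/-!
Averaging over the cosets of a subgroup of index prime to `p` on an abelian group of exponent `p`.
-/

set_option linter.style.haveILetI false

namespace Cfsg.Agent.H72

variable {A V : Type*} [Group A] [CommGroup V] (φ : A →* MulAut V) (K S : Subgroup A)
  [Fintype (K ⧸ S.subgroupOf K)]

/-- The product of the images of `z` over representatives of the cosets of `S` in `K`. -/
noncomputable def cosetProd (z : V) : V := ∏ q : K ⧸ S.subgroupOf K, φ (q.out : A) z

theorem cosetProd_apply_out {z : V} (hz : ∀ s ∈ S, φ s z = z) (k : K) :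
    φ (((k : K ⧸ S.subgroupOf K).out : K) : A) z = φ (k : A) z := by
  have h : (((k : K ⧸ S.subgroupOf K).out)⁻¹ * k) ∈ S.subgroupOf K :=
    QuotientGroup.eq.1 (QuotientGroup.out_eq' _)
  have h2 := hz _ (Subgroup.mem_subgroupOf.1 h)
  have : (k : A) = ((k : K ⧸ S.subgroupOf K).out : A) *
      ((((k : K ⧸ S.subgroupOf K).out)⁻¹ * k : K) : A) := by simp
  conv_rhs => rw [this, map_mul, MulAut.mul_apply, h2]

theorem cosetProd_fixed {z : V} (hz : ∀ s ∈ S, φ s z = z) {k : A} (hk : k ∈ K) :
    φ k (cosetProd φ K S z) = cosetProd φ K S z := by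
  rw [cosetProd, map_prod]
  refine Fintype.prod_equiv (MulAction.toPerm (⟨k, hk⟩ : K)) _ _ fun q => ?_
  rw [← MulAut.mul_apply, ← map_mul]
  induction q using QuotientGroup.induction_on with
  | _ x =>
    rw [MulAction.toPerm_apply, show ((⟨k, hk⟩ : K) • (x : K ⧸ S.subgroupOf K)) =
      ((⟨k, hk⟩ * x : K) : K ⧸ S.subgroupOf K) from rfl, cosetProd_apply_out φ K S hz, map_mul,
      MulAut.mul_apply, cosetProd_apply_out φ K S hz, ← MulAut.mul_apply, ← map_mul]
    simp

theorem cosetProd_eq_pow_of_fixed {z : V} (hz : ∀ k ∈ K, φ k z = z) :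
    cosetProd φ K S z = z ^ Fintype.card (K ⧸ S.subgroupOf K) := by
  rw [cosetProd, Finset.prod_congr rfl (fun q _ => hz _ (q.out).2), Finset.prod_const,
    Finset.card_univ]

theorem cosetProd_mul (y z : V) :
    cosetProd φ K S (y * z) = cosetProd φ K S y * cosetProd φ K S z := by
  simp [cosetProd, Finset.prod_mul_distrib]

theorem cosetProd_congr {W : Subgroup V} {z : V} (hW : ∀ k ∈ K, φ k z * z⁻¹ ∈ W) :
    cosetProd φ K S z * (z ^ Fintype.card (K ⧸ S.subgroupOf K))⁻¹ ∈ W := by
  rw [cosetProd, ← Finset.card_univ, ← Finset.prod_const, ← Finset.prod_inv_distrib,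
    ← Finset.prod_mul_distrib]
  exact Subgroup.prod_mem _ fun q _ => hW _ q.out.2

/-- Averaging commutes with elements normalizing `K` and `S`. -/
theorem cosetProd_equivariant {z : V} (hz : ∀ s ∈ S, φ s z = z) {t : A}
    (hK : t ∈ Subgroup.normalizer (K : Set A)) (hS : t ∈ Subgroup.normalizer (S : Set A)) :
    φ t (cosetProd φ K S z) = cosetProd φ K S (φ t z) := by
  classical
  have hz' : ∀ s ∈ S, φ s (φ t z) = φ t z := by
    intro s hs
    have h2 := (Subgroup.mem_normalizer_iff''.1 hS s).1 hs
    rw [← MulAut.mul_apply, ← map_mul, show s * t = t * (t⁻¹ * s * t) by group, map_mul,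
      MulAut.mul_apply, hz _ h2]
  let e : K → K := fun x => ⟨t * x * t⁻¹, (Subgroup.mem_normalizer_iff.1 hK x).1 x.2⟩
  let f : K ⧸ S.subgroupOf K → K ⧸ S.subgroupOf K := Quotient.map' e (by
    intro a b hab
    rw [QuotientGroup.leftRel_apply, Subgroup.mem_subgroupOf] at hab ⊢
    have := (Subgroup.mem_normalizer_iff.1 hS _).1 hab
    simpa [e, mul_assoc] using this)
  have hf : Function.Bijective f := by
    rw [← Finite.injective_iff_bijective]
    intro a b
    induction a using QuotientGroup.induction_on with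
    | _ a =>
      induction b using QuotientGroup.induction_on with
      | _ b =>
        intro hab
        have hab' : ((e a : K) : K ⧸ S.subgroupOf K) = (e b : K) := hab
        rw [QuotientGroup.eq, Subgroup.mem_subgroupOf] at hab' ⊢
        refine (Subgroup.mem_normalizer_iff.1 hS _).2 ?_
        simpa [e, mul_assoc] using hab'
  rw [cosetProd, map_prod]
  refine Fintype.prod_equiv (Equiv.ofBijective f hf) _ _ fun q => ?_
  induction q using QuotientGroup.induction_on with
  | _ x =>
    show φ t (φ _ z) = φ (((e x : K) : K ⧸ S.subgroupOf K).out : A) (φ t z)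
    rw [cosetProd_apply_out φ K S hz, cosetProd_apply_out φ K S hz', ← MulAut.mul_apply,
      ← map_mul, ← MulAut.mul_apply, ← map_mul]
    simp [e, mul_assoc]

end Cfsg.Agent.H72
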