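import Mathlib
import Cfsg.Prelude.Def_LocalEven
import Cfsg.Prelude.Def_LocalStructure
import Cfsg.Agent.H72.CharP
import Cfsg.Agent.H72.Amalgam
import Cfsg.Agent.H22.PResidual

/-!
`p`-reduced normal subgroups and the largest one, `Y_L`.
-/

set_option linter.style.haveILetI false
open scoped commutatorElement

namespace Cfsg.Agent.H72

variable {L : Type*} [Group L] {p : ℕ}

/-- `K` is a `p`-group modulo `C`. -/
def IsPMod (p : ℕ) (K C : Subgroup L) : Prop := ∀ x ∈ K, ∃ k : ℕ, x ^ (p ^ k) ∈ C

theorem IsPMod.mono {K K' C C' : Subgroup L} (h : IsPMod p K C) (hK : K' ≤ K) (hC : C ≤ C') :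
    IsPMod p K' C' := fun x hx => (h x (hK hx)).imp fun _ hk => hC hk

theorem isPMod_iff_map {K N : Subgroup L} [N.Normal] :
    IsPMod p K N ↔ IsPGroup p (K.map (QuotientGroup.mk' N)) := by
  constructor
  · rintro h ⟨_, x, hx, rfl⟩
    obtain ⟨k, hk⟩ := h x hx
    exact ⟨k, Subtype.ext (by
      push_cast
      rw [← map_pow]; exact (QuotientGroup.eq_one_iff _).2 hk)⟩
  · intro h x hx
    obtain ⟨k, hk⟩ := h ⟨_, x, hx, rfl⟩
    refine ⟨k, (QuotientGroup.eq_one_iff _).1 ?_⟩
    have h2 := congrArg Subtype.val hk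
    push_cast at h2
    rw [← QuotientGroup.mk'_apply, map_pow]
    exact h2

/-- A `p`-group modulo a normal subgroup stays one after joining that subgroup. -/
theorem IsPMod.sup {K N : Subgroup L} [N.Normal] (h : IsPMod p K N) : IsPMod p (K ⊔ N) N := by
  rw [isPMod_iff_map] at h ⊢
  rw [Subgroup.map_sup, (Subgroup.map_eq_bot_iff _).2 (QuotientGroup.ker_mk' N).ge, sup_bot_eq]
  exact h

theorem centralizer_normal {V : Subgroup L} (hV : V.Normal) :
    (Subgroup.centralizer (V : Set L)).Normal :=
  Subgroup.normalizer_eq_top_iff.1 (top_le_iff.1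
    ((Subgroup.normalizer_eq_top_iff.2 hV).ge.trans
      (H20.le_normalizer_centralizer (le_refl (Subgroup.normalizer (V : Set L))))))

theorem le_normalizer_sup {H A B : Subgroup L} (hA : H ≤ Subgroup.normalizer (A : Set L))
    (hB : H ≤ Subgroup.normalizer (B : Set L)) :
    H ≤ Subgroup.normalizer ((A ⊔ B : Subgroup L) : Set L) := by
  refine le_normalizer_of_conj fun g hg n hn => ?_
  suffices h : (A ⊔ B).map (MulAut.conj g).toMonoidHom ≤ A ⊔ B from h ⟨n, hn, rfl⟩
  rw [Subgroup.map_sup]
  refine sup_le_sup ?_ ?_ <;> rw [Subgroup.map_le_iff_le_comap]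
  · exact fun x hx => (Subgroup.mem_normalizer_iff.1 (hA hg) x).1 hx
  · exact fun x hx => (Subgroup.mem_normalizer_iff.1 (hB hg) x).1 hx

/-- A workable form of `p`-reducedness. -/
theorem isPReducedNormal_iff {V : Subgroup L} :
    IsPReducedNormal p V ↔ V.Normal ∧ IsElementaryAbelian p V ∧
      ∀ D : Subgroup L, D.Normal → IsPMod p D (Subgroup.centralizer (V : Set L)) →
        D ≤ Subgroup.centralizer (V : Set L) := by
  constructor
  · rintro ⟨h1, h2, h3, h4⟩
    refine ⟨h1, h2, fun D hD hmod => ?_⟩
    have := le_pCore (Subgroup.Normal.map hD _ (QuotientGroup.mk'_surjective _))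
      (isPMod_iff_map.1 hmod)
    rw [h4, le_bot_iff, Subgroup.map_eq_bot_iff, QuotientGroup.ker_mk'] at this
    exact this
  · rintro ⟨h1, h2, h3⟩
    haveI := centralizer_normal h1
    refine ⟨h1, h2, this, ?_⟩
    set f := QuotientGroup.mk' (Subgroup.centralizer (V : Set L))
    have hD := h3 ((pCore p _).comap f) (Subgroup.Normal.comap (pCore_normal p) f) (by
      rw [isPMod_iff_map, Subgroup.map_comap_eq_self_of_surjective (QuotientGroup.mk'_surjective _)]
      exact pCore_isPGroup p)
    rw [eq_bot_iff]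
    intro z hz
    obtain ⟨x, rfl⟩ := QuotientGroup.mk'_surjective _ z
    exact Subgroup.mem_bot.2 ((QuotientGroup.eq_one_iff _).2 (hD hz))

/-- Subnormal `p`-sections over the centralizer of a `p`-reduced subgroup are trivial. -/
theorem pRed_le_centralizer_of_isSubnormal {V D : Subgroup L}
    (hV : IsPReducedNormal p V) (hD : D.IsSubnormal)
    (hmod : IsPMod p D (Subgroup.centralizer (V : Set L))) :
    D ≤ Subgroup.centralizer (V : Set L) := by
  obtain ⟨h1, h2, h3, h4⟩ := hV
  have hsub := le_pCore_of_isSubnormal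
    (hD.map (QuotientGroup.mk'_surjective (Subgroup.centralizer (V : Set L))))
    (isPMod_iff_map.1 hmod)
  rwa [h4, le_bot_iff, Subgroup.map_eq_bot_iff, QuotientGroup.ker_mk'] at hsub

/-- `O_p(L)` centralizes every `p`-reduced normal subgroup. -/
theorem pRed_pCore_le_centralizer {V : Subgroup L} (hV : IsPReducedNormal p V) :
    pCore p L ≤ Subgroup.centralizer (V : Set L) :=
  (isPReducedNormal_iff.1 hV).2.2 _ (pCore_normal p) fun x hx => by
    obtain ⟨k, hk⟩ := pCore_isPGroup p ⟨x, hx⟩
    exact ⟨k, by rw [show x ^ p ^ k = 1 from congrArg Subtype.val hk]; exact one_mem _⟩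

/-- In characteristic `p` a `p`-reduced normal subgroup lies in `Ω₁(Z(O_p(L)))`. -/
theorem pRed_le_omegaOne {V : Subgroup L} (hV : IsPReducedNormal p V)
    (hchar : Subgroup.centralizer (pCore p L : Set L) ≤ pCore p L) :
    V ≤ omegaOne p (pCore p L ⊓ Subgroup.centralizer (pCore p L : Set L)) := by
  intro v hv
  have hc : v ∈ Subgroup.centralizer (pCore p L : Set L) :=
    Subgroup.le_centralizer_iff.1 (pRed_pCore_le_centralizer hV) hv
  exact mem_omegaOne ⟨hchar hc, hc⟩ (hV.2.1.2 v hv)

omit [Group L] in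
theorem isElementaryAbelian_omegaOne [Group L] {A : Subgroup L} (hA : IsMulCommutative A) :
    IsElementaryAbelian p (omegaOne p A) := by
  have hab : ∀ x ∈ A, ∀ y ∈ A, Commute x y := fun x hx y hy =>
    congrArg Subtype.val (hA.is_comm.comm ⟨x, hx⟩ ⟨y, hy⟩)
  refine ⟨⟨⟨fun a b => Subtype.ext (hab a (omegaOne_le p A a.2) b (omegaOne_le p A b.2))⟩⟩, ?_⟩
  intro a ha
  induction ha using Subgroup.closure_induction with
  | mem a ha => exact ha.2
  | one => exact one_pow p
  | mul a b ha hb iha ihb =>
    rw [(hab a (omegaOne_le p A ha) b (omegaOne_le p A hb)).mul_pow, iha, ihb, one_mul]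
  | inv a ha iha => rw [inv_pow, iha, inv_one]

theorem isElementaryAbelian_mono {A B : Subgroup L} (hB : IsElementaryAbelian p B) (h : A ≤ B) :
    IsElementaryAbelian p A := by
  obtain ⟨hc, hp⟩ := hB
  exact ⟨⟨⟨fun a b => Subtype.ext (congrArg (fun t : B => (t : L))
    (hc.is_comm.comm ⟨a, h a.2⟩ ⟨b, h b.2⟩))⟩⟩, fun a ha => hp a (h ha)⟩

theorem isMulCommutative_inf_centralizer (A : Subgroup L) :
    IsMulCommutative ↥(A ⊓ Subgroup.centralizer (A : Set L)) :=
  ⟨⟨fun a b => Subtype.ext (Subgroup.mem_centralizer_iff.1 b.2.2 a a.2.1)⟩⟩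

/-- In characteristic `p` the join of the `p`-reduced normal subgroups is `p`-reduced. -/
theorem largestPReduced_spec
    (hchar : Subgroup.centralizer (pCore p L : Set L) ≤ pCore p L) :
    IsPReducedNormal p (largestPReduced p L) ∧
      ∀ V : Subgroup L, IsPReducedNormal p V → V ≤ largestPReduced p L := by
  have hle : ∀ V : Subgroup L, IsPReducedNormal p V → V ≤ largestPReduced p L :=
    fun V hV => le_sSup (s := {V : Subgroup L | IsPReducedNormal p V}) hV
  refine ⟨isPReducedNormal_iff.2 ⟨?_, ?_, ?_⟩, hle⟩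
  · constructor
    intro n hn g
    suffices h : (largestPReduced p L).map (MulAut.conj g).toMonoidHom ≤ largestPReduced p L from
      h ⟨n, hn, rfl⟩
    rw [Subgroup.map_le_iff_le_comap]
    exact sSup_le fun V hV x hx => hle V hV (hV.1.conj_mem x hx g)
  · exact isElementaryAbelian_mono (isElementaryAbelian_omegaOne (p := p)
      (isMulCommutative_inf_centralizer (pCore p L)))
      (sSup_le fun V hV => pRed_le_omegaOne hV hchar)
  · intro D hD hmod
    rw [Subgroup.le_centralizer_iff]
    refine sSup_le fun V hV => ?_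
    rw [Subgroup.le_centralizer_iff]
    exact (isPReducedNormal_iff.1 hV).2.2 D hD
      (hmod.mono le_rfl (Subgroup.centralizer_le (SetLike.coe_subset_coe.2 (hle V hV))))

variable [Finite L] [Fact p.Prime]

/-- If `D` is normal and a `p`-group modulo the normal subgroup `C ≤ D`, then `D = C (T ∩ D)`. -/
theorem normal_le_sup_sylow {D C : Subgroup L} (T : Sylow p L) (hD : D.Normal) (hC : C.Normal)
    (hCD : C ≤ D) (hmod : IsPMod p D C) : D ≤ C ⊔ ((T : Subgroup L) ⊓ D) := by
  intro x hx
  have hs := QuotientGroup.mk'_surjective C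
  have h1 : D.map (QuotientGroup.mk' C) ≤ ((T.mapSurjective hs : Sylow p (L ⧸ C)) :
      Subgroup (L ⧸ C)) :=
    le_trans (le_pCore (Subgroup.Normal.map hD _ hs) (isPMod_iff_map.1 hmod)) (pCore_le_sylow _)
  obtain ⟨t, ht, hte⟩ := h1 (Subgroup.mem_map_of_mem _ hx)
  have hc : t⁻¹ * x ∈ C := QuotientGroup.eq.1 hte
  have htD : t ∈ D := by
    have := mul_mem hx (inv_mem (hCD hc))
    simpa [mul_assoc] using this
  have htTD : t ∈ (T : Subgroup L) ⊓ D := ⟨ht, htD⟩
  have := mul_mem (Subgroup.mem_sup_right (S := C) htTD)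
    (Subgroup.mem_sup_left hc)
  simpa using this

/-- The normal closure of a `p`-reduced normal subgroup of an overgroup of a Sylow subgroup is
`p`-reduced. -/
theorem isPReducedNormal_normalClosure
    (hchar : Subgroup.centralizer (pCore p L : Set L) ≤ pCore p L) (T : Sylow p L) {R : Subgroup L}
    (hTR : (T : Subgroup L) ≤ R) {X : Subgroup R} (hX : IsPReducedNormal p X) :
    IsPReducedNormal p (Subgroup.normalClosure ((X.map R.subtype : Subgroup L) : Set L)) := by
  set X' := X.map R.subtype with hX'
  have hQR : pCore p L ≤ R := (pCore_le_sylow T).trans hTR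
  have hQ : (pCore p L).subgroupOf R ≤ Subgroup.centralizer (X : Set R) :=
    le_trans (le_pCore ((pCore_normal p).comap _)
      ((pCore_isPGroup p).comap_of_injective R.subtype R.subtype_injective))
      (pRed_pCore_le_centralizer hX)
  have hX'Z : X' ≤ omegaOne p (pCore p L ⊓ Subgroup.centralizer (pCore p L : Set L)) := by
    rintro _ ⟨x, hx, rfl⟩
    have hc : R.subtype x ∈ Subgroup.centralizer (pCore p L : Set L) := by
      rw [Subgroup.mem_centralizer_iff]
      intro q hq
      exact (congrArg Subtype.val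
        (Subgroup.mem_centralizer_iff.1 (hQ (x := ⟨q, hQR hq⟩) hq) x hx)).symm
    refine mem_omegaOne ⟨hchar hc, hc⟩ ?_
    rw [← map_pow, hX.2.1.2 x hx, map_one]
  have hZn : (omegaOne p (pCore p L ⊓ Subgroup.centralizer (pCore p L : Set L))).Normal := by
    haveI := pCore_normal (G := L) p
    haveI := centralizer_normal (pCore_normal (G := L) p)
    rw [← Subgroup.normalizer_eq_top_iff, eq_top_iff]
    exact (Subgroup.normalizer_eq_top_iff.2 inferInstance).ge.trans
      (normalizer_le_normalizer_omegaOne p _)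
  haveI := hZn
  refine isPReducedNormal_iff.2 ⟨inferInstance, isElementaryAbelian_mono
    (isElementaryAbelian_omegaOne (p := p) (isMulCommutative_inf_centralizer (pCore p L)))
    (Subgroup.normalClosure_le_normal hX'Z), ?_⟩
  intro D hD hmod
  set Y := Subgroup.normalClosure (X' : Set L) with hY
  have hCn := centralizer_normal (Subgroup.normalClosure_normal (s := (X' : Set L)))
  haveI := hCn; haveI := hD
  set D' := D ⊔ Subgroup.centralizer (Y : Set L)
  have hD'n : D'.Normal := inferInstance
  have hCY : Subgroup.centralizer (Y : Set L) ≤ Subgroup.centralizer (X' : Set L) :=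
    Subgroup.centralizer_le Subgroup.subset_normalClosure
  have hmod' : IsPMod p D' (Subgroup.centralizer (Y : Set L)) := hmod.sup
  have hTD : (T : Subgroup L) ⊓ D' ≤ Subgroup.centralizer (X' : Set L) := by
    have h1 := (isPReducedNormal_iff.1 hX).2.2 (D'.subgroupOf R) (hD'n.comap _) (by
      rintro ⟨x, hxR⟩ hx
      obtain ⟨k, hk⟩ := hmod' x hx
      refine ⟨k, ?_⟩
      rw [Subgroup.mem_centralizer_iff]
      intro y hy
      exact Subtype.ext (Subgroup.mem_centralizer_iff.1 (hCY hk) (y : L) ⟨y, hy, rfl⟩))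
    rintro t ⟨ht, htD⟩
    rw [Subgroup.mem_centralizer_iff]
    rintro _ ⟨y, hy, rfl⟩
    exact congrArg Subtype.val
      (Subgroup.mem_centralizer_iff.1 (h1 (x := ⟨t, hTR ht⟩) htD) y hy)
  have hDX : D' ≤ Subgroup.centralizer (X' : Set L) :=
    (normal_le_sup_sylow T hD'n hCn le_sup_right hmod').trans (sup_le hCY hTD)
  haveI := centralizer_normal hD'n
  rw [Subgroup.le_centralizer_iff]
  refine le_trans (Subgroup.normalClosure_le_normal
    (SetLike.coe_subset_coe.2 (Subgroup.le_centralizer_iff.1 hDX))) ?_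
  exact Subgroup.centralizer_le (SetLike.coe_subset_coe.2 le_sup_left)

/-- The structure of the largest `p`-reduced normal subgroup. -/
theorem largest_structure
    (hchar : Subgroup.centralizer (pCore p L : Set L) ≤ pCore p L) (T : Sylow p L) {Y : Subgroup L}
    (hY : IsPReducedNormal p Y) (hmax : ∀ V : Subgroup L, IsPReducedNormal p V → V ≤ Y) :
    let TL := (T : Subgroup L) ⊓ Subgroup.centralizer (Y : Set L)
    Subgroup.normalizer (TL : Set L) ⊔ Subgroup.centralizer (Y : Set L) = ⊤ ∧
      pCoreOf p (Subgroup.normalizer (TL : Set L)) = TL ∧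
      Y = omegaOne p (TL ⊓ Subgroup.centralizer (TL : Set L)) := by
  intro TL
  haveI := centralizer_normal hY.1
  set C := Subgroup.centralizer (Y : Set L) with hC
  set N := Subgroup.normalizer (TL : Set L) with hN
  have hTN : (T : Subgroup L) ≤ N :=
    le_trans (le_inf Subgroup.le_normalizer
      ((le_top : (T : Subgroup L) ≤ ⊤).trans (Subgroup.normalizer_eq_top_iff.2 inferInstance).ge))
      Subgroup.inf_normalizer_le_normalizer_inf
  have hTLp : IsPGroup p TL := T.isPGroup'.to_le inf_le_left
  have hfrat : N ⊔ C = ⊤ := by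
    have hSyl : ∃ P : Sylow p C, (P : Subgroup C).map C.subtype = TL := by
      have hidx : ¬ p ∣ (TL.subgroupOf C).index := by
        show ¬ p ∣ TL.relIndex C
        rw [show TL.relIndex C = (T : Subgroup L).relIndex C from Subgroup.inf_relIndex_right _ _]
        exact H22.sylow_not_dvd_relIndex_normal T C
      refine ⟨(hTLp.comap_of_injective C.subtype C.subtype_injective).toSylow hidx, ?_⟩
      exact Subgroup.map_subgroupOf_eq_of_le inf_le_right
    obtain ⟨P, hP⟩ := hSyl
    have := Sylow.normalizer_sup_eq_top P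
    rw [hP] at this
    exact this
  have hYTL : Y ≤ TL := le_inf
    (((pRed_le_omegaOne hY hchar).trans (omegaOne_le p _)).trans inf_le_left |>.trans (pCore_le_sylow T))
    (fun y hy => by
      rw [Subgroup.mem_centralizer_iff]
      exact fun z hz => congrArg Subtype.val (hY.2.1.1.is_comm.comm ⟨z, hz⟩ ⟨y, hy⟩))
  have hcore : pCoreOf p N = TL := by
    apply le_antisymm
    · refine le_inf ?_ ?_
      · intro x hx
        exact Subgroup.map_mono (pCore_le_sylow (T.subtype hTN)) hx |>.elim
          fun y hy => hy.2 ▸ hy.1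
      · have hn : (pCoreOf p N ⊔ C).Normal := by
          rw [← Subgroup.normalizer_eq_top_iff, eq_top_iff, ← hfrat, sup_le_iff]
          refine ⟨le_normalizer_sup (le_normalizer_pCoreOf p N) ?_, ?_⟩
          · rw [Subgroup.normalizer_eq_top_iff.2 inferInstance]; exact le_top
          · exact le_sup_right.trans Subgroup.le_normalizer
        refine le_sup_left.trans ((isPReducedNormal_iff.1 hY).2.2 _ hn (IsPMod.sup ?_))
        intro x hx
        obtain ⟨k, hk⟩ := pCoreOf_isPGroup p N ⟨x, hx⟩
        exact ⟨k, by rw [show x ^ p ^ k = 1 from congrArg Subtype.val hk]; exact one_mem _⟩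
    · exact le_pCoreOf Subgroup.le_normalizer le_rfl hTLp
  refine ⟨hfrat, hcore, le_antisymm ?_ ?_⟩
  · intro y hy
    refine mem_omegaOne ⟨hYTL hy, ?_⟩ (hY.2.1.2 y hy)
    exact Subgroup.le_centralizer_iff.1 (inf_le_right : TL ≤ C) hy
  · set W := omegaOne p (TL ⊓ Subgroup.centralizer (TL : Set L)) with hW
    have hYW : Y ≤ W := fun y hy => mem_omegaOne
      ⟨hYTL hy, Subgroup.le_centralizer_iff.1 (inf_le_right : TL ≤ C) hy⟩ (hY.2.1.2 y hy)
    have hWN : W ≤ N := ((omegaOne_le p _).trans inf_le_left).trans Subgroup.le_normalizer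
    have hWn : N ≤ Subgroup.normalizer (W : Set L) :=
      le_trans (le_trans (le_inf le_rfl (H20.le_normalizer_centralizer le_rfl))
        Subgroup.inf_normalizer_le_normalizer_inf) (normalizer_le_normalizer_omegaOne p _)
    have hWred : IsPReducedNormal p (W.subgroupOf N) := by
      refine isPReducedNormal_iff.2 ⟨Subgroup.normal_subgroupOf_of_le_normalizer hWn, ?_, ?_⟩
      · obtain ⟨hc, hp⟩ := isElementaryAbelian_omegaOne (p := p)
          (isMulCommutative_inf_centralizer TL)
        refine ⟨⟨⟨fun a b => ?_⟩⟩, fun a ha => Subtype.ext (by simpa using hp _ ha)⟩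
        exact Subtype.ext (Subtype.ext (congrArg (fun t : omegaOne p (TL ⊓ Subgroup.centralizer (TL : Set L)) => (t : L))
          (hc.is_comm.comm ⟨((a : N) : L), a.2⟩ ⟨((b : N) : L), b.2⟩)))
      · intro D hD hmod
        have hcent : ∀ z : N, z ∈ Subgroup.centralizer (W.subgroupOf N : Set N) ↔
            (z : L) ∈ Subgroup.centralizer (W : Set L) := by
          intro z
          simp only [Subgroup.mem_centralizer_iff, SetLike.mem_coe, Subgroup.mem_subgroupOf]
          exact ⟨fun h w hw => congrArg Subtype.val (h ⟨w, hWN hw⟩ hw),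
            fun h w hw => Subtype.ext (h w hw)⟩
        set D' := D.map N.subtype with hD'
        have hD'N : N ≤ Subgroup.normalizer (D' : Set L) := by
          have := Subgroup.le_normalizer_map (H := D) N.subtype
          rw [Subgroup.normalizer_eq_top_iff.2 hD, ← MonoidHom.range_eq_map,
            Subgroup.range_subtype] at this
          exact this
        have hn : (D' ⊔ C).Normal := by
          rw [← Subgroup.normalizer_eq_top_iff, eq_top_iff, ← hfrat, sup_le_iff]
          refine ⟨le_normalizer_sup hD'N ?_,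
            le_sup_right.trans Subgroup.le_normalizer⟩
          rw [Subgroup.normalizer_eq_top_iff.2 inferInstance]; exact le_top
        have hDC : D' ≤ C := by
          refine le_sup_left.trans ((isPReducedNormal_iff.1 hY).2.2 _ hn (IsPMod.sup ?_))
          rintro _ ⟨d, hd, rfl⟩
          obtain ⟨k, hk⟩ := hmod d hd
          refine ⟨k, ?_⟩
          rw [← map_pow]
          exact Subgroup.centralizer_le (SetLike.coe_subset_coe.2 hYW) ((hcent _).1 hk)
        set CW := Subgroup.centralizer (W.subgroupOf N : Set N)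
        haveI : CW.Normal := centralizer_normal (Subgroup.normal_subgroupOf_of_le_normalizer hWn)
        haveI := hD
        refine le_trans (le_sup_left (b := CW)) ((normal_le_sup_sylow (T.subtype hTN) inferInstance
          inferInstance le_sup_right hmod.sup).trans (sup_le le_rfl ?_))
        rintro t ⟨htT, htD⟩
        rw [hcent]
        have htC : (t : L) ∈ C := by
          have hle : (D ⊔ CW).map N.subtype ≤ C := by
            rw [Subgroup.map_sup, sup_le_iff]
            refine ⟨hDC, ?_⟩
            rintro _ ⟨c, hc, rfl⟩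
            exact Subgroup.centralizer_le (SetLike.coe_subset_coe.2 hYW) ((hcent c).1 hc)
          exact hle ⟨t, htD, rfl⟩
        have htTL : (t : L) ∈ TL := ⟨htT, htC⟩
        rw [Subgroup.mem_centralizer_iff]
        exact fun w hw => (Subgroup.mem_centralizer_iff.1 ((omegaOne_le p _) hw).2 _ htTL).symm
    have := hmax _ (isPReducedNormal_normalClosure hchar T hTN hWred)
    rw [Subgroup.map_subgroupOf_eq_of_le hWN] at this
    exact (Subgroup.le_normalClosure).trans this

/-- `[V, O^p(K)]` is a `p`-reduced normal subgroup of a subnormal `K`. -/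
theorem isPReducedNormal_commutator_residual {V K : Subgroup L} (hV : IsPReducedNormal p V)
    (hK : K.IsSubnormal) :
    ⁅V, (pResidual p K).map K.subtype⁆ ≤ K ∧
      IsPReducedNormal p ((⁅V, (pResidual p K).map K.subtype⁆).subgroupOf K) := by
  set R := (pResidual p K).map K.subtype with hR
  have hRK : R ≤ K := Subgroup.map_subtype_le _
  have hKR : K ≤ Subgroup.normalizer (R : Set L) :=
    Subgroup.le_normalizer.trans (normalizer_le_normalizer_pResidual K)
  have hVp : IsPGroup p V := fun v => ⟨1, Subtype.ext (by simpa using hV.2.1.2 _ v.2)⟩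
  have hVR : V ≤ Subgroup.normalizer (R : Set L) := by
    have hmem : ∀ x ∈ K ⊔ V, (orderOf x).Coprime p → x ∈ K := fun x hx hc =>
      mem_of_coprime_mem_sup hK hV.1 hVp hx hc
    have heq : (pResidual p ↥(K ⊔ V)).map (K ⊔ V).subtype = R := by
      rw [hR, pResidual_map_eq, pResidual_map_eq]
      congr 1
      ext x
      exact ⟨fun hx => ⟨hmem x hx.1 hx.2, hx.2⟩, fun hx => ⟨Subgroup.mem_sup_left hx.1, hx.2⟩⟩
    rw [← heq]
    exact le_sup_right.trans (Subgroup.le_normalizer.trans (normalizer_le_normalizer_pResidual _))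
  set W := ⁅V, R⁆ with hW
  have hWR : W ≤ R := Subgroup.le_normalizer_iff_commutator_le_right.1 hVR
  haveI := hV.1
  have hWV : W ≤ V := Subgroup.commutator_le_left V R
  refine ⟨hWR.trans hRK, isPReducedNormal_iff.2 ⟨?_, ?_, ?_⟩⟩
  · apply Subgroup.normal_subgroupOf_of_le_normalizer
    refine le_normalizer_of_conj fun g hg n hn => ?_
    suffices h : W.map (MulAut.conj g).toMonoidHom ≤ W from h ⟨n, hn, rfl⟩
    rw [hW, Subgroup.map_commutator]
    refine Subgroup.commutator_mono ?_ ?_
    · rw [Subgroup.map_le_iff_le_comap]; exact fun x hx => hV.1.conj_mem x hx g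
    · rw [Subgroup.map_le_iff_le_comap]
      exact fun x hx => (Subgroup.mem_normalizer_iff.1 (hKR hg) x).1 hx
  · obtain ⟨hc, hp⟩ := hV.2.1
    exact ⟨⟨⟨fun a b => Subtype.ext (Subtype.ext (congrArg (fun t : V => (t : L))
      (hc.is_comm.comm ⟨_, hWV a.2⟩ ⟨_, hWV b.2⟩)))⟩⟩,
      fun a ha => Subtype.ext (by simpa using hp _ (hWV ha))⟩
  · intro D hD hmod
    set D' := D.map K.subtype with hD'
    have hD'K : D' ≤ K := Subgroup.map_subtype_le _
    have hsub : D'.IsSubnormal := by
      refine Subgroup.IsSubnormal.step D' K hD'K hK ?_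
      rw [hD', Subgroup.subgroupOf, Subgroup.comap_map_eq_self_of_injective K.subtype_injective]
      exact hD
    have hcent : ∀ z, ∀ hzK : z ∈ K, (⟨z, hzK⟩ : K) ∈
        Subgroup.centralizer (W.subgroupOf K : Set K) → z ∈ Subgroup.centralizer (W : Set L) := by
      intro z hzK hz
      rw [Subgroup.mem_centralizer_iff] at hz ⊢
      exact fun w hw => congrArg Subtype.val (hz ⟨w, hRK (hWR hw)⟩ hw)
    have hle : D' ≤ Subgroup.centralizer (V : Set L) := by
      refine pRed_le_centralizer_of_isSubnormal hV hsub fun x hx => ?_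
      refine exists_pow_mem_of_coprime_mem (fun y hy hyc => ?_) hx
      obtain ⟨d, hd, rfl⟩ := hy
      refine coprime_mem_centralizer_of_series (N := W) hVp ?_ hyc ?_ ?_
      · exact (Subgroup.normalizer_eq_top_iff.2 hV.1).ge (Subgroup.mem_top _)
      · exact fun v hv => Subgroup.commutator_mem_commutator hv (mem_pResidual_map d.2 hyc)
      · obtain ⟨k, hk⟩ := hmod d hd
        have h1 : (K.subtype d) ^ p ^ k ∈ Subgroup.centralizer (W : Set L) :=
          hcent _ (pow_mem d.2 _) hk
        have hcop : (p ^ k).Coprime (orderOf (K.subtype d)) := (hyc.symm).pow_left k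
        obtain ⟨m, hm⟩ := exists_pow_eq_self_of_coprime hcop
        rw [← hm]
        exact pow_mem h1 m
    intro d hd
    rw [Subgroup.mem_centralizer_iff]
    intro w hw
    exact Subtype.ext (Subgroup.mem_centralizer_iff.1 (hle ⟨d, hd, rfl⟩) _ (hWV hw))

end Cfsg.Agent.H72
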