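import Mathlib
import Cfsg.Prelude.Def_LocalEven
import Cfsg.Agent.H72.CharP
import Cfsg.Agent.H72.PReduced
import Cfsg.Agent.H72.Average
import Cfsg.Agent.H20.Abelian
import Cfsg.Agent.H24.PGroupBasic
import Cfsg.Agent.H22.PResidual

/-!
Averaging inside a group, fixed points of `p`-groups, Kieler's lemma.
-/

set_option linter.style.haveILetI false
open scoped IsMulCommutative commutatorElement

namespace Cfsg.Agent.H72

variable {G : Type*} [Group G] [Finite G] {p : ℕ} [Fact p.Prime]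

/-- Averaging in the ambient group: a retraction of `V ∩ C(S)` to `V ∩ C(K)`. -/
theorem exists_average_map {V K S : Subgroup G} (hV : IsElementaryAbelian p V)
    (hK : K ≤ Subgroup.normalizer (V : Set G)) (hSK : S ≤ K) (hidx : ¬ p ∣ S.relIndex K) :
    ∃ e : G → G,
      (∀ z ∈ V ⊓ Subgroup.centralizer (S : Set G), e z ∈ V ⊓ Subgroup.centralizer (K : Set G)) ∧
      (∀ z ∈ V ⊓ Subgroup.centralizer (K : Set G), e z = z) ∧
      (∀ y ∈ V, ∀ z ∈ V, e (y * z) = e y * e z) ∧
      (∀ z ∈ V, ∀ W : Subgroup G, W ≤ V → (∀ k ∈ K, ⁅k, z⁆ ∈ W) → (e z)⁻¹ * z ∈ W) ∧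
      (∀ z ∈ V ⊓ Subgroup.centralizer (S : Set G), ∀ t ∈ Subgroup.normalizer (V : Set G),
        t ∈ Subgroup.normalizer (K : Set G) → t ∈ Subgroup.normalizer (S : Set G) →
        e (t * z * t⁻¹) = t * e z * t⁻¹) := by
  classical
  obtain ⟨hVc, hVp⟩ := hV
  haveI := hVc
  have hSN : S ≤ Subgroup.normalizer (V : Set G) := hSK.trans hK
  set φ := H20.conjAut (le_refl (Subgroup.normalizer (V : Set G))) with hφ
  set K' := K.subgroupOf (Subgroup.normalizer (V : Set G)) with hK'
  set S' := S.subgroupOf (Subgroup.normalizer (V : Set G)) with hS'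
  haveI : Fintype (K' ⧸ S'.subgroupOf K') := Fintype.ofFinite _
  have hn : Fintype.card (K' ⧸ S'.subgroupOf K') = S.relIndex K := by
    rw [Fintype.card_eq_nat_card, ← Subgroup.index_eq_card]
    exact Subgroup.relIndex_subgroupOf hK
  have hcop : (Fintype.card (K' ⧸ S'.subgroupOf K')).Coprime p :=
    ((Nat.Prime.coprime_iff_not_dvd Fact.out).2 (hn ▸ hidx)).symm
  obtain ⟨m, -, hm⟩ := Nat.exists_mul_mod_eq_one_of_coprime hcop (Fact.out : p.Prime).one_lt
  have hpowv : ∀ v : V, v ^ (Fintype.card (K' ⧸ S'.subgroupOf K') * m) = v := by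
    intro v
    have hvp : v ^ p = 1 := Subtype.ext (by simpa using hVp _ v.2)
    rw [← Nat.mod_add_div (Fintype.card (K' ⧸ S'.subgroupOf K') * m) p, hm, pow_add, pow_one,
      pow_mul, hvp, one_pow, mul_one]
  have hfixed : ∀ (z : G) (hz : z ∈ V) (U : Subgroup G), U ≤ Subgroup.normalizer (V : Set G) →
      z ∈ Subgroup.centralizer (U : Set G) →
      ∀ s ∈ U.subgroupOf (Subgroup.normalizer (V : Set G)), φ s ⟨z, hz⟩ = ⟨z, hz⟩ := by
    intro z hz U hU hc s hs
    apply Subtype.ext
    rw [H20.coe_conjAut]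
    show (s : G) * z * (s : G)⁻¹ = z
    rw [Subgroup.mem_centralizer_iff.1 hc (s : G) (show (s : G) ∈ U from hs), mul_inv_cancel_right]
  refine ⟨fun z => if hz : z ∈ V then ((cosetProd φ K' S' ((⟨z, hz⟩ : V) ^ m) : V) : G) else 1,
    ?_, ?_, ?_, ?_, ?_⟩
  · intro z hz
    have hzV : z ∈ V := hz.1
    simp only [dif_pos hzV]
    refine ⟨Subtype.coe_prop _, ?_⟩
    simp only [Subgroup.mem_toSubmonoid, SetLike.mem_coe, Subgroup.mem_centralizer_iff]
    intro k hk
    have h1 : φ ⟨k, hK hk⟩ (cosetProd φ K' S' ((⟨z, hz.1⟩ : V) ^ m)) =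
        cosetProd φ K' S' ((⟨z, hz.1⟩ : V) ^ m) :=
      cosetProd_fixed φ K' S' (fun s hs => by
        rw [map_pow, hfixed z hz.1 S hSN hz.2 s hs]) (show (⟨k, hK hk⟩ : _) ∈ K' from hk)
    have h2 := congrArg Subtype.val h1
    rw [H20.coe_conjAut] at h2
    simp only at h2
    have h3 := congrArg (fun t => t * k) h2
    simpa [mul_assoc] using h3
  · intro z hz
    have hzV : z ∈ V := hz.1
    simp only [dif_pos hzV]
    rw [cosetProd_eq_pow_of_fixed φ K' S' (fun s hs => by
      rw [map_pow, hfixed z hz.1 K hK hz.2 s hs]), ← pow_mul, mul_comm, hpowv]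
  · intro y hy z hz
    simp only [dif_pos hy, dif_pos hz, dif_pos (mul_mem hy hz)]
    rw [← Subgroup.coe_mul, ← cosetProd_mul, ← mul_pow]
    rfl
  · intro z hz W hWV hW
    simp only [dif_pos hz]
    have h1 := cosetProd_congr φ K' S' (W := W.subgroupOf V) (z := (⟨z, hz⟩ : V) ^ m) (by
      intro k hk
      rw [map_pow, ← inv_pow, ← mul_pow]
      refine pow_mem ?_ m
      rw [Subgroup.mem_subgroupOf, Subgroup.coe_mul, H20.coe_conjAut, Subgroup.coe_inv]
      simpa [commutatorElement_def] using hW k hk)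
    rw [← pow_mul, mul_comm m, hpowv, Subgroup.mem_subgroupOf] at h1
    have h3 := inv_mem h1
    push_cast at h3
    rw [mul_inv_rev, inv_inv] at h3
    have hcomm := congrArg (fun t : V => (t : G))
      (mul_comm (⟨z, hz⟩ : V) (cosetProd φ K' S' ((⟨z, hz⟩ : V) ^ m))⁻¹)
    simp only [Subgroup.coe_mul, Subgroup.coe_inv] at hcomm
    rwa [hcomm] at h3
  · intro z hz t htV htK htS
    have htz : t * z * t⁻¹ ∈ V := (Subgroup.mem_normalizer_iff.1 htV z).1 hz.1
    have hzV : z ∈ V := hz.1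
    simp only [dif_pos hzV, dif_pos htz]
    have hnK : (⟨t, htV⟩ : ↥(Subgroup.normalizer (V : Set G))) ∈
        Subgroup.normalizer (K' : Set ↥(Subgroup.normalizer (V : Set G))) := by
      rw [Subgroup.mem_normalizer_iff]
      exact fun n => Subgroup.mem_normalizer_iff.1 htK (n : G)
    have hnS : (⟨t, htV⟩ : ↥(Subgroup.normalizer (V : Set G))) ∈
        Subgroup.normalizer (S' : Set ↥(Subgroup.normalizer (V : Set G))) := by
      rw [Subgroup.mem_normalizer_iff]
      exact fun n => Subgroup.mem_normalizer_iff.1 htS (n : G)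
    have h1 := cosetProd_equivariant φ K' S' (z := (⟨z, hz.1⟩ : V) ^ m) (fun s hs => by
      rw [map_pow, hfixed z hz.1 S hSN hz.2 s hs]) hnK hnS
    have h2 := congrArg Subtype.val h1
    rw [H20.coe_conjAut, map_pow] at h2
    rw [show (φ ⟨t, htV⟩) ⟨z, hz.1⟩ = (⟨t * z * t⁻¹, htz⟩ : V) from
      Subtype.ext (by rw [H20.coe_conjAut])] at h2
    exact h2.symm

/-- A nontrivial `p`-group `M` normalized by a `p`-group `T` has a nontrivial fixed point. -/
theorem exists_fixed_ne_one {M T : Subgroup G} (hM : IsPGroup p M) (hT : IsPGroup p T)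
    (hTM : T ≤ Subgroup.normalizer (M : Set G)) (hne : M ≠ ⊥) :
    ∃ m ∈ M, m ≠ 1 ∧ m ∈ Subgroup.centralizer (T : Set G) := by
  have hP : IsPGroup p (T ⊔ M : Subgroup G) := hT.to_sup_of_normal_right' hM hTM
  haveI : (M.subgroupOf (T ⊔ M)).Normal :=
    Subgroup.normal_subgroupOf_of_le_normalizer (sup_le hTM Subgroup.le_normalizer)
  have hne' : M.subgroupOf (T ⊔ M) ≠ ⊥ := by
    rw [Ne, Subgroup.subgroupOf_eq_bot, disjoint_iff, inf_of_le_left le_sup_right]
    exact hne
  obtain ⟨z, hz, hz1⟩ :=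
    (Subgroup.bot_or_exists_ne_one _).resolve_left (H24.inf_center_ne_bot hP hne')
  refine ⟨z, hz.1, fun h => hz1 (Subtype.ext h), ?_⟩
  rw [Subgroup.mem_centralizer_iff]
  intro t ht
  exact congrArg Subtype.val
    (Subgroup.mem_center_iff.1 hz.2 ⟨t, Subgroup.mem_sup_left ht⟩)

theorem le_normalizer_inf_of {A B C : Subgroup G} (hA : C ≤ Subgroup.normalizer (A : Set G))
    (hB : C ≤ Subgroup.normalizer (B : Set G)) :
    C ≤ Subgroup.normalizer ((A ⊓ B : Subgroup G) : Set G) :=
  le_trans (le_inf hA hB) Subgroup.inf_normalizer_le_normalizer_inf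

/-- `Ω₁(Z(A))`, and elements centralizing it. -/
theorem mem_omegaOne_center_iff {A : Subgroup G} {x : G} :
    x ∈ omegaOne p (A ⊓ Subgroup.centralizer (A : Set G)) ↔
      x ∈ A ∧ x ∈ Subgroup.centralizer (A : Set G) ∧ x ^ p = 1 := by
  constructor
  · intro hx
    exact ⟨(omegaOne_le p _ hx).1, (omegaOne_le p _ hx).2,
      (isElementaryAbelian_omegaOne (isMulCommutative_inf_centralizer A)).2 x hx⟩
  · rintro ⟨h1, h2, h3⟩
    exact mem_omegaOne ⟨h1, h2⟩ h3

/-- `Ω₁(Z(S)) ≤ O_p(H)` for `S` containing `O_p(H)` in `H` of characteristic `p`. -/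
theorem omegaOne_center_le_pCoreOf {H S : Subgroup G} (hH : IsCharP p H) (hSH : S ≤ H)
    (hQS : pCoreOf p H ≤ S) :
    omegaOne p (S ⊓ Subgroup.centralizer (S : Set G)) ≤
      omegaOne p (pCoreOf p H ⊓ Subgroup.centralizer (pCoreOf p H : Set G)) := by
  intro x hx
  rw [mem_omegaOne_center_iff] at hx ⊢
  have hc := Subgroup.centralizer_le (SetLike.coe_subset_coe.2 hQS) hx.2.1
  exact ⟨hH x (hSH hx.1) hc, hc, hx.2.2⟩

/-- Kieler's lemma for a normal subgroup. -/
theorem kieler_normal {K L T : Subgroup G} (hK : IsCharP p K) (hLK : L ≤ K)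
    (hn : K ≤ Subgroup.normalizer (L : Set G)) (hTK : T ≤ K) (hTp : IsPGroup p T)
    (hQT : pCoreOf p K ≤ T) (hidx : ¬ p ∣ (T ⊓ L).relIndex L) :
    L ⊓ Subgroup.centralizer (omegaOne p (T ⊓ Subgroup.centralizer (T : Set G)) : Set G) =
      L ⊓ Subgroup.centralizer
        (omegaOne p ((T ⊓ L) ⊓ Subgroup.centralizer ((T ⊓ L : Subgroup G) : Set G)) : Set G) := by
  set Z0 := omegaOne p (T ⊓ Subgroup.centralizer (T : Set G)) with hZ0
  set S := T ⊓ L with hS
  set ZL := omegaOne p (S ⊓ Subgroup.centralizer (S : Set G)) with hZL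
  have hL : IsCharP p L := hK.of_normal hLK hn
  have hQLQ : pCoreOf p L ≤ pCoreOf p K := by
    refine le_pCoreOf ((pCoreOf_le p L).trans hLK) ?_ (pCoreOf_isPGroup p L)
    refine le_normalizer_of_conj fun k hk y hy => ?_
    have h1 : L.map (MulAut.conj k).toMonoidHom = L := by
      ext z
      rw [Subgroup.mem_map_equiv, MulAut.conj_symm_apply]
      exact ((Subgroup.mem_normalizer_iff''.1 (hn hk) z)).symm
    have := pCoreOf_map_equiv (MulAut.conj k) p L
    rw [h1] at this
    exact this.symm ▸ (Subgroup.mem_map_of_mem (MulAut.conj k).toMonoidHom hy)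
  have hQLS : pCoreOf p L ≤ S := le_inf (hQLQ.trans hQT) (pCoreOf_le p L)
  -- the modules
  set U := omegaOne p (pCoreOf p L ⊓ Subgroup.centralizer (pCoreOf p L : Set G)) with hU
  set V := omegaOne p (pCoreOf p K ⊓ Subgroup.centralizer (pCoreOf p K : Set G)) with hVdef
  have hUe : IsElementaryAbelian p U :=
    isElementaryAbelian_omegaOne (isMulCommutative_inf_centralizer _)
  have hVe : IsElementaryAbelian p V :=
    isElementaryAbelian_omegaOne (isMulCommutative_inf_centralizer _)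
  have hKV : K ≤ Subgroup.normalizer (V : Set G) :=
    le_trans (le_normalizer_inf_of (le_normalizer_pCoreOf p K)
      (H20.le_normalizer_centralizer (le_normalizer_pCoreOf p K)))
      (normalizer_le_normalizer_omegaOne p _)
  have hLU : L ≤ Subgroup.normalizer (U : Set G) :=
    le_trans (le_normalizer_inf_of (le_normalizer_pCoreOf p L)
      (H20.le_normalizer_centralizer (le_normalizer_pCoreOf p L)))
      (normalizer_le_normalizer_omegaOne p _)
  have hTQL : T ≤ Subgroup.normalizer (pCoreOf p L : Set G) := by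
    refine le_normalizer_of_conj fun k hk y hy => ?_
    have h1 : L.map (MulAut.conj k).toMonoidHom = L := by
      ext z
      rw [Subgroup.mem_map_equiv, MulAut.conj_symm_apply]
      exact ((Subgroup.mem_normalizer_iff''.1 (hn (hTK hk)) z)).symm
    have := pCoreOf_map_equiv (MulAut.conj k) p L
    rw [h1] at this
    exact this.symm ▸ (Subgroup.mem_map_of_mem (MulAut.conj k).toMonoidHom hy)
  have hTU : T ≤ Subgroup.normalizer (U : Set G) :=
    le_trans (le_normalizer_inf_of hTQL (H20.le_normalizer_centralizer hTQL))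
      (normalizer_le_normalizer_omegaOne p _)
  have hZ0V : Z0 ≤ V := omegaOne_center_le_pCoreOf hK hTK hQT
  have hZLU : ZL ≤ U := omegaOne_center_le_pCoreOf hL inf_le_right hQLS
  have hSc : ∀ (A : Subgroup G), S ≤ A →
      omegaOne p (A ⊓ Subgroup.centralizer (A : Set G)) ≤ Subgroup.centralizer (S : Set G) :=
    fun A hA => ((omegaOne_le p _).trans inf_le_right).trans
      (Subgroup.centralizer_le (SetLike.coe_subset_coe.2 hA))
  have hTS : T ≤ Subgroup.normalizer (S : Set G) :=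
    le_normalizer_inf_of Subgroup.le_normalizer (hTK.trans hn)
  apply le_antisymm
  · -- the centralizer of `Z0` in `L` centralizes `ZL`
    set Y := L ⊓ Subgroup.centralizer (Z0 : Set G) with hY
    have hSY : S ≤ Y := le_inf inf_le_right (Subgroup.le_centralizer_iff.1 (hSc T inf_le_left))
    have hidxY : ¬ p ∣ S.relIndex Y := fun hd =>
      hidx (hd.trans (Dvd.intro _ (Subgroup.relIndex_mul_relIndex S Y L hSY inf_le_left)))
    obtain ⟨e, he1, he2, he3, -, he5⟩ :=
      exists_average_map hUe (inf_le_left.trans hLU) hSY hidxY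
    have hTY : T ≤ Subgroup.normalizer (Y : Set G) := by
      refine le_normalizer_inf_of (hTK.trans hn) (H20.le_normalizer_centralizer ?_)
      exact le_trans (le_normalizer_inf_of Subgroup.le_normalizer
        (H20.le_normalizer_centralizer Subgroup.le_normalizer))
        (normalizer_le_normalizer_omegaOne p _)
    have hone : e 1 = 1 := he2 1 (one_mem _)
    let M : Subgroup G :=
      { carrier := {z | z ∈ U ⊓ Subgroup.centralizer (S : Set G) ∧ e z = 1}
        one_mem' := ⟨one_mem _, hone⟩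
        mul_mem' := fun {y z} hy hz =>
          ⟨mul_mem hy.1 hz.1, by rw [he3 _ hy.1.1 _ hz.1.1, hy.2, hz.2, one_mul]⟩
        inv_mem' := fun {y} hy => ⟨inv_mem hy.1, by
          have h := he3 _ (inv_mem hy.1.1) _ hy.1.1
          rw [inv_mul_cancel, hy.2, mul_one, hone] at h
          exact h.symm⟩ }
    have hMp : IsPGroup p M :=
      (fun v => ⟨1, Subtype.ext (by simpa using hUe.2 _ v.2.1.1)⟩)
    have hTM : T ≤ Subgroup.normalizer (M : Set G) := by
      refine le_normalizer_of_conj fun t ht z hz => ⟨⟨?_, ?_⟩, ?_⟩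
      · exact (Subgroup.mem_normalizer_iff.1 (hTU ht) z).1 hz.1.1
      · exact (Subgroup.mem_normalizer_iff.1 (H20.le_normalizer_centralizer hTS ht) z).1 hz.1.2
      · rw [he5 z hz.1 t (hTU ht) (hTY ht) (hTS ht), hz.2]; group
    have hMbot : M = ⊥ := by
      by_contra hne
      obtain ⟨m, ⟨hm, hem⟩, hm1, hmc⟩ := exists_fixed_ne_one hMp hTp hTM hne
      refine hm1 ((he2 m ⟨hm.1, ?_⟩).symm.trans hem)
      have hmZ0 : m ∈ Z0 := mem_omegaOne_center_iff.2
        ⟨hQT (hQLQ ((omegaOne_le p _ hm.1).1)), hmc, hUe.2 m hm.1⟩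
      simp only [Subgroup.mem_toSubmonoid, SetLike.mem_coe, Subgroup.mem_centralizer_iff]
      exact fun y hy => (Subgroup.mem_centralizer_iff.1 hy.2 m hmZ0).symm
    intro x hx
    refine ⟨hx.1, ?_⟩
    simp only [Subgroup.mem_toSubmonoid, SetLike.mem_coe, Subgroup.mem_centralizer_iff]
    intro z hz
    have hz' : z ∈ U ⊓ Subgroup.centralizer (S : Set G) := ⟨hZLU hz, hSc S le_rfl hz⟩
    obtain ⟨hezU, hezc⟩ := he1 z hz'
    have hezS : e z ∈ U ⊓ Subgroup.centralizer (S : Set G) :=
      ⟨hezU, Subgroup.centralizer_le (SetLike.coe_subset_coe.2 hSY) hezc⟩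
    have hker : z * (e z)⁻¹ ∈ M := by
      refine ⟨mul_mem hz' (inv_mem hezS), ?_⟩
      rw [he3 _ hz'.1 _ (inv_mem hezU), he2 _ (inv_mem ⟨hezU, hezc⟩), mul_inv_cancel]
    rw [hMbot, Subgroup.mem_bot, mul_inv_eq_one] at hker
    rw [hker]
    exact (Subgroup.mem_centralizer_iff.1 hezc x hx).symm
  · -- the centralizer of `ZL` in `L` centralizes `Z0`
    set X := L ⊓ Subgroup.centralizer (ZL : Set G) with hX
    have hSX : S ≤ X := le_inf inf_le_right (Subgroup.le_centralizer_iff.1 (hSc S le_rfl))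
    have hidxX : ¬ p ∣ S.relIndex X := fun hd =>
      hidx (hd.trans (Dvd.intro _ (Subgroup.relIndex_mul_relIndex S X L hSX inf_le_left)))
    obtain ⟨e, he1, -, -, he4, -⟩ :=
      exists_average_map hVe (inf_le_left.trans (hLK.trans hKV)) hSX hidxX
    intro x hx
    refine ⟨hx.1, ?_⟩
    simp only [Subgroup.mem_toSubmonoid, SetLike.mem_coe, Subgroup.mem_centralizer_iff]
    intro z hz
    have hzS : z ∈ V ⊓ Subgroup.centralizer (S : Set G) := ⟨hZ0V hz, hSc T inf_le_left hz⟩
    obtain ⟨hezV, hezc⟩ := he1 z hzS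
    have hdiff : (e z)⁻¹ * z ∈ V ⊓ L := he4 z hzS.1 _ inf_le_left fun k hk =>
      ⟨Subgroup.le_normalizer_iff_commutator_le_right.1 (hLK.trans hKV)
          (Subgroup.commutator_mem_commutator hk.1 hzS.1),
        Subgroup.le_normalizer_iff_commutator_le_left.1
          (((omegaOne_le p _).trans inf_le_left).trans ((pCoreOf_le p K).trans hn))
          (Subgroup.commutator_mem_commutator hk.1 hzS.1)⟩
    have hdc : (e z)⁻¹ * z ∈ ZL := by
      refine mem_omegaOne_center_iff.2 ⟨⟨hQT (omegaOne_le p _ hdiff.1).1, hdiff.2⟩, ?_,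
        hVe.2 _ hdiff.1⟩
      exact mul_mem (inv_mem (Subgroup.centralizer_le (SetLike.coe_subset_coe.2 hSX) hezc)) hzS.2
    have h2 : Commute ((e z)⁻¹ * z) x := Subgroup.mem_centralizer_iff.1 hx.2 _ hdc
    have h3 : Commute (e z) x := (Subgroup.mem_centralizer_iff.1 hezc x hx).symm
    have := h3.mul_left h2
    rw [mul_inv_cancel_left] at this
    exact this.eq

/-- Kieler's lemma. -/
theorem kieler (hG : Subgroup.centralizer (pCore p G : Set G) ≤ pCore p G) (T : Sylow p G)
    {L : Subgroup G} (hL : L.IsSubnormal) :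
    (¬ p ∣ ((T : Subgroup G) ⊓ L).relIndex L ∧ pCoreOf p L ≤ (T : Subgroup G)) ∧
    L ⊓ Subgroup.centralizer
        (omegaOne p ((T : Subgroup G) ⊓ Subgroup.centralizer ((T : Subgroup G) : Set G)) : Set G) =
      L ⊓ Subgroup.centralizer (omegaOne p (((T : Subgroup G) ⊓ L) ⊓
        Subgroup.centralizer (((T : Subgroup G) ⊓ L : Subgroup G) : Set G)) : Set G) := by
  induction hL with
  | top =>
    refine ⟨⟨?_, pCoreOf_top.le.trans (pCore_le_sylow T)⟩, by rw [inf_top_eq]⟩
    rw [inf_top_eq, Subgroup.relIndex_top_right]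
    exact T.not_dvd_index
  | step A B hle hB hN ih =>
    obtain ⟨⟨hidx, hQ⟩, heq⟩ := ih
    have hn := (Subgroup.normal_subgroupOf_iff_le_normalizer hle).1 hN
    have hTA : (T : Subgroup G) ⊓ A = ((T : Subgroup G) ⊓ B) ⊓ A := by
      rw [inf_assoc, inf_eq_right.2 hle]
    have hidxA : ¬ p ∣ ((T : Subgroup G) ⊓ A).relIndex A := by
      haveI := hN
      have hS : ¬ p ∣ (((T : Subgroup G) ⊓ B).subgroupOf B).index := hidx
      have hp : IsPGroup p (((T : Subgroup G) ⊓ B).subgroupOf B) :=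
        (T.isPGroup'.to_le inf_le_left).comap_of_injective B.subtype B.subtype_injective
      have h3 := H22.sylow_not_dvd_relIndex_normal (hp.toSylow hS) (A.subgroupOf B)
      have h5 : (((T : Subgroup G) ⊓ B).subgroupOf B).relIndex (A.subgroupOf B) =
          ((T : Subgroup G) ⊓ B).relIndex A := Subgroup.relIndex_subgroupOf hle
      have h4 : (((T : Subgroup G) ⊓ B) ⊓ A).relIndex A = ((T : Subgroup G) ⊓ B).relIndex A :=
        Subgroup.inf_relIndex_right _ _
      rw [hTA, h4, ← h5]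
      exact h3
    refine ⟨⟨hidxA, le_trans (pCoreOf_le_pCore_of_isSubnormal
      (Subgroup.IsSubnormal.step A B hle hB hN)) (pCore_le_sylow T)⟩, ?_⟩
    have hk := kieler_normal (isCharP_of_isSubnormal hG hB) hle hn inf_le_right
      (T.isPGroup'.to_le inf_le_left) (le_inf hQ (pCoreOf_le p B)) (hTA ▸ hidxA)
    rw [hTA, ← hk, ← inf_eq_left.2 hle, inf_assoc, heq, ← inf_assoc, inf_eq_left.2 hle]

end Cfsg.Agent.H72
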