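import Cfsg.Agent.H72.NormSteps
import Cfsg.Agent.H22.PResidual
import Cfsg.Agent.H19.Cores

/-!
Glauberman's theorem on fixed points, local form: an element of `O_p(H)` which is central in a Sylow
subgroup `T` and fixed by `N(J(T))` is central in `H`, for `p` odd, `p`-th powers or `S₄`-free `H`.
-/

set_option autoImplicit false
set_option linter.style.haveILetI false

namespace Cfsg.Agent.H72

open Subgroup
open scoped commutatorElement IsMulCommutative Pointwise

universe u

/-- The conjugation representation on a normal abelian subgroup. -/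
def conjEnd {H : Type u} [Group H] (W : Subgroup H) [W.Normal] [IsMulCommutative W] :
    H →* AddMonoid.End (Additive W) where
  toFun g := MonoidHom.toAdditive (MulAut.conjNormal (H := W) g).toMonoidHom
  map_one' := AddMonoidHom.ext fun v => by
    change Additive.ofMul (MulAut.conjNormal (H := W) 1 (Additive.toMul v)) = v
    rw [map_one]; rfl
  map_mul' g h := AddMonoidHom.ext fun v => by
    change Additive.ofMul (MulAut.conjNormal (H := W) (g * h) (Additive.toMul v)) = _
    rw [map_mul]; rfl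

theorem conjEnd_fix_iff {H : Type u} [Group H] {W : Subgroup H} [W.Normal] [IsMulCommutative W] (g : H)
    (v : W) : conjEnd W g (Additive.ofMul v) = Additive.ofMul v ↔ Commute g (v : H) := by
  constructor
  · intro h
    exact mul_inv_eq_iff_eq_mul.1
      (congrArg (fun z : Additive W => ((Additive.toMul z : W) : H)) h :)
  · intro h
    exact congrArg Additive.ofMul (Subtype.ext (mul_inv_eq_iff_eq_mul.2 h.eq :
      g * (v : H) * g⁻¹ = v))

/-- `J(T)` is weakly closed in `T`, in the form used by the norm argument. -/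
theorem weaklyClosed_thompsonSubgroupAOf {H : Type u} [Group H] [Finite H] (T : Subgroup H) (g : H)
    (h : ∀ t ∈ thompsonSubgroupAOf T, g⁻¹ * t * g ∈ T) :
    g ∈ normalizer (thompsonSubgroupAOf T : Set H) := by
  refine mem_normalizer_thompsonSubgroupAOf fun A hA => ?_
  intro y hy
  rw [H23.mem_rconj] at hy
  have := h _ (hA.le_thompson hy)
  simpa [mul_assoc] using this

/-- Abelian subgroups of largest order of `T` contained in `Q ≤ T` are those of `Q`. -/
theorem thompsonSubgroupAOf_eq_of_le {H : Type u} [Group H] [Finite H] {T Q : Subgroup H} (hQT : Q ≤ T)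
    (hJ : thompsonSubgroupAOf T ≤ Q) : thompsonSubgroupAOf Q = thompsonSubgroupAOf T := by
  rw [thompsonSubgroupAOf_eq, thompsonSubgroupAOf_eq]
  congr 1
  obtain ⟨A₀, hA₀⟩ := exists_isMaxAb T
  ext A
  constructor
  · rintro ⟨hAQ, hc, hmax⟩
    exact ⟨hAQ.trans hQT, hc, fun B hB hBc => (hA₀.2.2 B hB hBc).trans
      (hmax A₀ (hA₀.le_thompson.trans hJ) hA₀.2.1)⟩
  · intro hA
    exact ⟨hA.le_thompson.trans hJ, hA.2.1, fun B hB => hA.2.2 B (hB.trans hQT)⟩

variable {p : ℕ} [hp : Fact p.Prime]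

/-- Minimal best offenders. -/
def minBest {Y : Type u} [Group Y] {M : Type*} [AddCommGroup M] (p : ℕ) (ρ : Y →* AddMonoid.End M) :
    Set (Subgroup Y) :=
  {B | (IsPGroup p B ∧ (∀ a ∈ B, ∀ b ∈ B, Commute a b) ∧ B ≠ ⊥ ∧ ∀ B' ≤ B,
      Nat.card B' * Nat.card (H23.fixedAdd ρ B') ≤ Nat.card B * Nat.card (H23.fixedAdd ρ B)) ∧
    ∀ D, D < B → D ≠ ⊥ →
      ¬ ∀ B' ≤ D, Nat.card B' * Nat.card (H23.fixedAdd ρ B') ≤
        Nat.card D * Nat.card (H23.fixedAdd ρ D)}

theorem fixedAdd_mono {Y : Type u} [Group Y] {M : Type*} [AddCommGroup M]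
    (ρ : Y →* AddMonoid.End M) {B B' : Subgroup Y} (h : B' ≤ B) :
    H23.fixedAdd ρ B ≤ H23.fixedAdd ρ B' :=
  fun _ hm => H23.mem_fixedAdd.2 fun b hb => H23.mem_fixedAdd.1 hm b (h hb)

theorem rconj_mem_minBest {Y : Type u} [Group Y] [Finite Y] {M : Type*} [AddCommGroup M]
    (ρ : Y →* AddMonoid.End M) {B : Subgroup Y} (hB : B ∈ minBest p ρ) (g : Y) :
    H23.rconj g B ∈ minBest p ρ := by
  have hv : ∀ D : Subgroup Y, Nat.card (H23.fixedAdd ρ (H23.rconj g D)) =
      Nat.card (H23.fixedAdd ρ D) := by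
    intro D
    refine Nat.card_congr
      { toFun := fun m => ⟨ρ g m, H23.mem_fixedAdd.2 fun d hd => ?_⟩
        invFun := fun m => ⟨ρ g⁻¹ m, H23.mem_fixedAdd.2 fun d hd => ?_⟩
        left_inv := fun m => Subtype.ext (rho_inv_apply ρ g m)
        right_inv := fun m => Subtype.ext (by
          show ρ g (ρ g⁻¹ m) = m
          rw [← rho_mul_apply, mul_inv_cancel, rho_one_apply]) }
    · have hmem : g⁻¹ * d * g ∈ H23.rconj g D := by simpa [mul_assoc] using hd
      rw [← rho_mul_apply, show d * g = g * (g⁻¹ * d * g) by group, rho_mul_apply,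
        H23.mem_fixedAdd.1 m.2 _ hmem]
    · rw [H23.mem_rconj] at hd
      rw [← rho_mul_apply, show d * g⁻¹ = g⁻¹ * (g * d * g⁻¹) by group, rho_mul_apply,
        H23.mem_fixedAdd.1 m.2 _ hd]
  have hback : ∀ D, H23.rconj g (H23.rconj g⁻¹ D) = D := fun D => by
    rw [H23.rconj_rconj, inv_mul_cancel, H23.rconj_one]
  obtain ⟨⟨hp', hc, hne, hbest⟩, hmin⟩ := hB
  refine ⟨⟨hp'.map _, ?_, fun h => hne ?_, fun B' hB' => ?_⟩, fun D hD hDne h => ?_⟩
  · rintro _ ⟨a, ha, rfl⟩ _ ⟨b, hb, rfl⟩
    exact (hc a ha b hb).map _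
  · rw [← card_eq_one, ← H23.card_rconj g, h, card_bot]
  · rw [← hback B', hv, hv, H23.card_rconj g, H23.card_rconj g]
    refine hbest _ ?_
    have := H23.rconj_mono g⁻¹ hB'
    rwa [H23.rconj_rconj, mul_inv_cancel, H23.rconj_one] at this
  · refine hmin (H23.rconj g⁻¹ D) ?_ ?_ fun B' hB' => ?_
    · refine lt_of_le_of_ne ?_ fun e => hD.ne (by rw [← hback D, e])
      have := H23.rconj_mono g⁻¹ hD.le
      rwa [H23.rconj_rconj, mul_inv_cancel, H23.rconj_one] at this
    · intro e
      exact hDne (by rw [← hback D, e, H23.rconj, Subgroup.map_bot])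
    · have h2 := h (H23.rconj g B') (by rw [← hback D]; exact H23.rconj_mono g hB')
      rwa [hv, H23.card_rconj, ← hback D, hv, H23.card_rconj g] at h2

/-- The case of a faithful module without transvections: `x` is fixed as soon as the proper
overgroups of the normalizer of a `p`-group fix it. -/
theorem fixed_of_no_transvection {Y : Type u} [Group Y] [Finite Y] {M : Type*} [AddCommGroup M]
    [Finite M] (ρ : Y →* AddMonoid.End M) (T : Sylow p Y)
    (hnt : ∀ b : Y, b ≠ 1 → b ^ p = 1 →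
      p * Nat.card (H23.fixedAdd ρ (zpowers b)) < Nat.card M)
    (hMp : ∃ k : ℕ, Nat.card M = p ^ k) (x : M) (hx : ∀ t ∈ (T : Subgroup Y), ρ t x = x) (hexp : ∃ k : ℕ, p ^ k • x = 0)
    (hpx : ∀ g : Y, p • ρ g x = p • x)
    (hN : ∀ J : Subgroup Y, J ≠ ⊥ → J ≤ (T : Subgroup Y) → (T : Subgroup Y) ≤ normalizer (J : Set Y) →
      ∀ g ∈ normalizer (J : Set Y), ρ g x = x)
    {A : Subgroup Y} (hAT : A ≤ (T : Subgroup Y)) (hA : A ≠ ⊥) (hAc : ∀ a ∈ A, ∀ b ∈ A, Commute a b)
    (hAbest : ∀ B' ≤ A, Nat.card B' * Nat.card (H23.fixedAdd ρ B') ≤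
      Nat.card A * Nat.card (H23.fixedAdd ρ A)) :
    ∀ g : Y, ρ g x = x := by
  set 𝓕 := minBest p ρ with h𝓕
  set J := sSup {B | B ∈ 𝓕 ∧ B ≤ (T : Subgroup Y)} with hJ
  have hJT : J ≤ (T : Subgroup Y) := sSup_le fun B hB => hB.2
  have hwc : ∀ g : Y, (∀ t ∈ J, g⁻¹ * t * g ∈ (T : Subgroup Y)) → g ∈ normalizer (J : Set Y) := by
    intro g hg
    apply H23.mem_normalizer_of_rconj
    refine eq_of_le_of_card_ge ?_ (H23.card_rconj g _).ge
    rw [hJ, H23.rconj, map_le_iff_le_comap]
    refine sSup_le fun B hB => map_le_iff_le_comap.1 (le_sSup ⟨rconj_mem_minBest ρ hB.1 g, ?_⟩)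
    intro y hy
    rw [← H23.rconj, H23.mem_rconj] at hy
    have := hg _ (le_sSup hB hy)
    simpa [mul_assoc] using this
  have hTJ : (T : Subgroup Y) ≤ normalizer (J : Set Y) := fun t ht => hwc t fun s hs =>
    mul_mem (mul_mem (inv_mem ht) (hJT hs)) ht
  obtain ⟨B₁, ⟨hB₁A, hB₁ne, hB₁best⟩, hB₁min⟩ := Set.Finite.exists_minimal
    (s := {B : Subgroup Y | B ≤ A ∧ B ≠ ⊥ ∧ ∀ B' ≤ B, Nat.card B' * Nat.card (H23.fixedAdd ρ B') ≤
      Nat.card B * Nat.card (H23.fixedAdd ρ B)}) (Set.toFinite _) ⟨A, le_rfl, hA, hAbest⟩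
  have hB₁ : B₁ ∈ 𝓕 := by
    refine ⟨⟨T.2.to_le (hB₁A.trans hAT), fun a ha b hb => hAc a (hB₁A ha) b (hB₁A hb), hB₁ne,
      hB₁best⟩, fun D hD hDne h => ?_⟩
    exact hD.not_ge (hB₁min ⟨hD.le.trans hB₁A, hDne, h⟩ hD.le)
  have hJne : J ≠ ⊥ := fun h => hB₁ne (le_bot_iff.1 (h ▸ le_sSup ⟨hB₁, hB₁A.trans hAT⟩))
  refine fixed_of_norm_argument ρ (T : Subgroup Y) T.2 T.not_dvd_index 𝓕 J hJT ?_ hwc hTJ
    (AddMonoidHom.id M) (fun _ _ => rfl) x hx (hN J hJne hJT hTJ) hpx hexp ?_
  · exact sSup_le fun B hB => le_sSup (show B ∈ 𝓕 ∧ B ≤ J from ⟨hB.1, le_sSup hB⟩)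
  intro B hB hBT B0 hB0 hidx a ha ha0 v hv
  show ∑ j ∈ Finset.range p, ρ (a ^ j) v = p • v
  refine sum_pow_fixed ρ p ?_
  obtain ⟨⟨-, -, hne, hbest⟩, hmin⟩ := hB
  have hcard : Nat.card B0 * p = Nat.card B := by
    have e := relIndex_mul_relIndex ⊥ B0 B bot_le hB0
    rwa [relIndex_bot_left, relIndex_bot_left, hidx] at e
  rcases eq_or_ne B0 ⊥ with rfl | hB0ne
  · exfalso
    rw [card_bot, one_mul] at hcard
    have ha1 : a ≠ 1 := fun h => ha0 (h ▸ one_mem _)
    have hap : a ^ p = 1 := by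
      have : (⟨a, ha⟩ : B) ^ Nat.card B = 1 := pow_card_eq_one'
      rw [← hcard] at this
      exact congrArg Subtype.val this
    have hzB : zpowers a ≤ B := zpowers_le.2 ha
    have hzeq : zpowers a = B := eq_of_le_of_card_ge hzB (by
      rw [Nat.card_zpowers, ← hcard, orderOf_eq_prime hap ha1])
    have h1 := hbest ⊥ bot_le
    have htop : H23.fixedAdd ρ (⊥ : Subgroup Y) = ⊤ := eq_top_iff.2 fun m _ =>
      H23.mem_fixedAdd.2 fun y hy => by rw [mem_bot.1 hy, rho_one_apply]
    rw [card_bot, one_mul, htop, AddSubgroup.card_top, ← hcard, ← hzeq] at h1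
    exact (hnt a ha1 hap).not_ge h1
  · have hlt : Nat.card B0 * Nat.card (H23.fixedAdd ρ B0) <
        Nat.card B * Nat.card (H23.fixedAdd ρ B) := by
      refine Nat.lt_of_le_of_ne (hbest B0 hB0) fun e => hmin B0 (lt_of_le_of_ne hB0 fun h => ha0 (h ▸ ha)) hB0ne
        fun B' hB' => e ▸ hbest B' (hB'.trans hB0)
    rw [← hcard, mul_assoc] at hlt
    have hlt' := Nat.lt_of_mul_lt_mul_left hlt
    have hle := fixedAdd_mono ρ hB0
    have hmem : v ∈ H23.fixedAdd ρ B0 := H23.mem_fixedAdd.2 hv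
    suffices heq : H23.fixedAdd ρ B = H23.fixedAdd ρ B0 from H23.mem_fixedAdd.1 (heq ▸ hmem) a ha
    set F := H23.fixedAdd ρ B
    set F0 := H23.fixedAdd ρ B0
    refine AddSubgroup.eq_of_le_of_card_ge hle ?_
    have hmp : Nat.card F0 < p * Nat.card F := hlt'
    obtain ⟨m, hm⟩ := AddSubgroup.card_dvd_of_le hle
    obtain ⟨k, hk⟩ := hMp
    have hmdvd : m ∣ p ^ k := hk ▸ (Dvd.intro_left _ hm.symm).trans F0.card_addSubgroup_dvd_card
    obtain ⟨i, -, rfl⟩ := (Nat.dvd_prime_pow hp.out).1 hmdvd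
    have hi : p ^ i < p ^ 1 := by
      rw [hm, mul_comm p] at hmp
      rw [pow_one]
      exact Nat.lt_of_mul_lt_mul_left hmp
    obtain rfl : i = 0 := by
      have := (Nat.pow_lt_pow_iff_right hp.out.one_lt).1 hi
      omega
    rw [hm, pow_zero, mul_one]

/-- The three cases of Glauberman's theorem. -/
def LocalCase (p : ℕ) (H : Type u) [Group H] (x z : H) : Prop :=
  (p ≠ 2 ∧ x = z) ∨ x = z ^ p ∨ (p = 2 ∧ x = z ∧ ¬ Involves (Equiv.Perm (Fin 4)) H)

/-- The induction step of Glauberman's theorem. -/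
theorem local_fixed_step {H : Type u} [Group H] [Finite H] (T : Sylow p H) (x z : H)
    (hz : z ∈ (T : Subgroup H)) (hzT : ∀ t ∈ (T : Subgroup H), Commute t z) (hxO : x ∈ pCore p H)
    (hcase : LocalCase p H x z)
    (hN : ∀ n ∈ normalizer (thompsonSubgroupAOf (T : Subgroup H) : Set H), Commute n x)
    (hsub : ∀ H1 : Subgroup H, (T : Subgroup H) ≤ H1 → H1 ≠ ⊤ → ∀ h ∈ H1, Commute h x)
    (hxp : ∀ h : H, Commute h (x ^ p)) : ∀ h : H, Commute h x := by
  have hxz : ∃ i : ℕ, x = z ^ i := by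
    rcases hcase with ⟨-, e⟩ | e | ⟨-, e, -⟩
    exacts [⟨1, by rw [e, pow_one]⟩, ⟨p, e⟩, ⟨1, by rw [e, pow_one]⟩]
  obtain ⟨i, hi⟩ := hxz
  have hfixz : ∀ h, Commute h z → Commute h x := fun h hh => hi ▸ hh.pow_right i
  set P := pCore p H with hP
  haveI hPn : P.Normal := H19.pCore_normal p H
  have hPp : IsPGroup p P := H19.pCore_isPGroup p
  have hPT : P ≤ (T : Subgroup H) := H19.pCore_le_sylow T
  have hTnorm : ∀ N : Subgroup H, N.Normal → (T : Subgroup H) ≤ normalizer (((T : Subgroup H) ⊓ N : Subgroup H) : Set H) := by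
    intro N hN t ht
    rw [mem_normalizer_iff]
    intro y
    constructor
    · rintro ⟨h1 : y ∈ (T : Subgroup H), h2 : y ∈ N⟩
      exact ⟨show t * y * t⁻¹ ∈ (T : Subgroup H) from mul_mem (mul_mem ht h1) (inv_mem ht),
        hN.conj_mem y h2 t⟩
    · rintro ⟨h1 : t * y * t⁻¹ ∈ (T : Subgroup H), h2 : t * y * t⁻¹ ∈ N⟩
      have h3 : t⁻¹ * (t * y * t⁻¹) * t = y := by group
      refine ⟨show y ∈ (T : Subgroup H) from h3 ▸ mul_mem (mul_mem (inv_mem ht) h1) ht,
        show y ∈ N from h3 ▸ ?_⟩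
      have := hN.conj_mem _ h2 t⁻¹
      rwa [inv_inv] at this
  have hfrat : ∀ N : Subgroup H, N.Normal →
      normalizer (((T : Subgroup H) ⊓ N : Subgroup H) : Set H) ⊔ N = ⊤ := by
    intro N hN
    have hp' : IsPGroup p (((T : Subgroup H) ⊓ N).subgroupOf N) :=
      (T.2.to_le inf_le_left).of_equiv (subgroupOfEquivOfLe inf_le_right).symm
    have hidx : ¬ p ∣ (((T : Subgroup H) ⊓ N).subgroupOf N).index := by
      show ¬ p ∣ ((T : Subgroup H) ⊓ N).relIndex N
      rw [inf_relIndex_right]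
      exact H22.sylow_not_dvd_relIndex_normal T N
    have h := Sylow.normalizer_sup_eq_top (hp'.toSylow hidx)
    rwa [show (((hp'.toSylow hidx) : Subgroup N)).map N.subtype = (T : Subgroup H) ⊓ N from
      map_subgroupOf_eq_of_le inf_le_right] at h
  have hconcl : ∀ (M N : Subgroup H), M ⊔ N = ⊤ → (∀ m ∈ M, Commute m x) → (∀ m ∈ N, Commute m x) →
      ∀ h : H, Commute h x := by
    intro M N htop hM hN h
    have hle : M ⊔ N ≤ centralizer ({x} : Set H) :=
      sup_le (fun m hm => mem_centralizer_singleton_iff.2 (hM m hm).eq)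
        (fun m hm => mem_centralizer_singleton_iff.2 (hN m hm).eq)
    rw [htop] at hle
    exact mem_centralizer_singleton_iff.1 (hle (mem_top h))
  -- reduction to `C_T(O_p) ≤ O_p`
  set C := centralizer (P : Set H) with hC
  haveI hCn : C.Normal := Subgroup.normal_centralizer
  set CT := (T : Subgroup H) ⊓ C with hCT
  have hCTx : ∀ m ∈ C, Commute m x := fun m hm => (mem_centralizer_iff.1 hm x hxO).symm
  by_cases hne : normalizer (CT : Set H) ≠ ⊤
  · exact hconcl _ _ (hfrat C hCn) (hsub _ (hTnorm C hCn) hne) hCTx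
  have htop : normalizer (CT : Set H) = ⊤ := not_not.1 hne
  have hCTP : CT ≤ P := H19.le_pCore (normalizer_eq_top_iff.1 htop) (T.2.to_le inf_le_left)
  have hzC : z ∈ C := mem_centralizer_iff.2 fun u hu => (hzT u (hPT hu)).eq
  have hzP : z ∈ P := hCTP ⟨hz, hzC⟩
  -- the module
  set W := normalClosure ({z} : Set H) with hW
  haveI hWn : W.Normal := normalClosure_normal
  have hzW : z ∈ W := subset_normalClosure rfl
  have hWP : W ≤ P := normalClosure_le_normal (Set.singleton_subset_iff.2 hzP)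
  have hWC : W ≤ C := normalClosure_le_normal (Set.singleton_subset_iff.2 hzC)
  have hWc : ∀ v ∈ W, ∀ w ∈ W, Commute v w := fun v hv w hw =>
    mem_centralizer_iff.1 (hWC hw) v (hWP hv)
  haveI : IsMulCommutative W := ⟨⟨fun a b => Subtype.ext (hWc a a.2 b b.2).eq⟩⟩
  have hWT : W ≤ (T : Subgroup H) := hWP.trans hPT
  have hxW : x ∈ W := hi ▸ pow_mem hzW i
  set Cw := centralizer (W : Set H) with hCw
  haveI hCwn : Cw.Normal := Subgroup.normal_centralizer
  have hCwx : ∀ m ∈ Cw, Commute m x := fun m hm => (mem_centralizer_iff.1 hm x hxW).symm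
  have hTWn : (T : Subgroup H) ≤ normalizer (W : Set H) :=
    le_top.trans_eq (normalizer_eq_top_iff.2 hWn).symm
  by_cases hJ : thompsonSubgroupAOf (T : Subgroup H) ≤ Cw
  · refine hconcl _ _ (hfrat Cw hCwn) (fun m hm => hN m ?_) hCwx
    rw [← thompsonSubgroupAOf_eq_of_le (T := (T : Subgroup H)) (Q := (T : Subgroup H) ⊓ Cw)
      inf_le_left (le_inf (thompsonSubgroupAOf_le _) hJ)]
    exact normalizer_le_normalizer_thompsonSubgroupAOf _ hm
  -- the norm argument on `W`
  obtain ⟨k, hk⟩ := (hPp.to_le hWP).exists_card_eq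
  have hMp : ∃ k : ℕ, Nat.card (Additive W) = p ^ k :=
    ⟨k, (Nat.card_congr Additive.toMul).trans hk⟩
  have hexp : ∀ m : Additive W, p ^ k • m = 0 := fun m =>
    Additive.toMul.injective (show (Additive.toMul m) ^ p ^ k = 1 by rw [← hk]; exact pow_card_eq_one')
  set xM : Additive W := Additive.ofMul ⟨x, hxW⟩ with hxM
  set zM : Additive W := Additive.ofMul ⟨z, hzW⟩ with hzM
  have hTx : ∀ t ∈ (T : Subgroup H), Commute t x := fun t ht => hfixz t (hzT t ht)
  have hpx : ∀ g : H, p • conjEnd W g xM = p • xM := by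
    intro g
    rw [← map_nsmul]
    exact (conjEnd_fix_iff g (⟨x, hxW⟩ ^ p)).2 (by simpa using hxp g)
  have hgen : thompsonSubgroupAOf (T : Subgroup H) ≤ sSup {B | IsMaxAb (T : Subgroup H) B ∧
      B ≤ thompsonSubgroupAOf (T : Subgroup H)} := by
    nth_rw 1 [thompsonSubgroupAOf_eq]
    exact sSup_le fun B hB => le_sSup (show IsMaxAb _ B ∧ _ from ⟨hB, hB.le_thompson⟩)
  have hMfix : ∀ g : H, conjEnd W g xM = xM → Commute g x := fun g hg =>
    (conjEnd_fix_iff g ⟨x, hxW⟩).1 hg
  rcases hcase with ⟨hp2, hxe⟩ | hxe | ⟨hp2, hxe, h4⟩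
  · -- `p` odd
    subst hxe
    refine fun h => hMfix h (fixed_of_norm_argument (conjEnd W) (T : Subgroup H) T.2 T.not_dvd_index
      {B | IsMaxAb (T : Subgroup H) B} _ (thompsonSubgroupAOf_le _) hgen
      (weaklyClosed_thompsonSubgroupAOf _) (le_normalizer_thompsonSubgroupAOf _)
      (AddMonoidHom.id _) (fun _ _ => rfl) xM
      (fun t ht => (conjEnd_fix_iff t ⟨x, hxW⟩).2 (hTx t ht))
      (fun g hg => (conjEnd_fix_iff g ⟨x, hxW⟩).2 (hN g hg)) hpx ⟨k, hexp _⟩ ?_ h)
    intro B hB _ B0 hB0 hidx a ha _ v hv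
    obtain ⟨⟨w, hw⟩, rfl⟩ := Additive.ofMul.surjective v
    obtain ⟨h1, h2⟩ := maxAb_step T.2 hWT hTWn hWc hB hB0 hidx hw
      (fun b hb => (conjEnd_fix_iff b ⟨w, hw⟩).1 (hv b hb))
    set v := Additive.ofMul (⟨w, hw⟩ : W) with hvdef
    have hcw : ⁅a, w⁆ ∈ W := by
      rw [commutatorElement_def]
      exact mul_mem (hWn.conj_mem w hw a) (inv_mem hw)
    have hc : conjEnd W a v - v = Additive.ofMul (⟨⁅a, w⁆, hcw⟩ : W) := by
      apply Additive.toMul.injective
      rw [toMul_sub]
      apply Subtype.ext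
      rw [div_eq_mul_inv]
      rfl
    refine sum_pow_apply (conjEnd W) hp.out hp2 (c := conjEnd W a v - v) (add_sub_cancel v _).symm ?_ ?_
    · rw [hc]; exact (conjEnd_fix_iff a _).2 (h2 a ha a ha)
    · rw [smul_sub, ← map_nsmul, sub_eq_zero]
      exact (conjEnd_fix_iff a (⟨w, hw⟩ ^ p)).2 (h1 a ha)
  · -- `x` is a `p`-th power
    have hxz' : xM = p • zM := by
      rw [hxM, hzM, ← ofMul_pow]
      exact congrArg Additive.ofMul (Subtype.ext hxe)
    refine fun h => hMfix h ?_
    rw [hxz']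
    refine fixed_of_norm_argument (conjEnd W) (T : Subgroup H) T.2 T.not_dvd_index
      {B | IsMaxAb (T : Subgroup H) B} _ (thompsonSubgroupAOf_le _) hgen
      (weaklyClosed_thompsonSubgroupAOf _) (le_normalizer_thompsonSubgroupAOf _)
      (nsmulAddMonoidHom p) (fun g m => (map_nsmul (conjEnd W g) p m).symm) zM
      (fun t ht => (conjEnd_fix_iff t ⟨z, hzW⟩).2 (hzT t ht)) ?_ ?_ ⟨k, hexp _⟩ ?_ h
    · intro g hg
      show conjEnd W g (p • zM) = p • zM
      rw [← hxz']
      exact (conjEnd_fix_iff g ⟨x, hxW⟩).2 (hN g hg)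
    · intro g
      show p • conjEnd W g (p • zM) = p • (p • zM)
      rw [← hxz']
      exact hpx g
    intro B hB _ B0 hB0 hidx a ha _ v hv
    obtain ⟨⟨w, hw⟩, rfl⟩ := Additive.ofMul.surjective v
    obtain ⟨h1, -⟩ := maxAb_step T.2 hWT hTWn hWc hB hB0 hidx hw
      (fun b hb => (conjEnd_fix_iff b ⟨w, hw⟩).1 (hv b hb))
    refine sum_pow_fixed (conjEnd W) p ?_
    exact (conjEnd_fix_iff a (⟨w, hw⟩ ^ p)).2 (h1 a ha)
  · -- `S₄`-free
    subst hp2
    subst hxe
    have hUV : ∀ u ∈ Cw, ∀ v ∈ W, Commute u v := fun u hu v hv =>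
      (mem_centralizer_iff.1 hu v hv).symm
    set ρ := H23.quotientConjEnd Cw W hUV with hρ
    set q := QuotientGroup.mk' Cw with hq
    have hqs : Function.Surjective q := QuotientGroup.mk'_surjective Cw
    have hρfix : ∀ (g : H) (v : W), ρ (q g) (Additive.ofMul v) = Additive.ofMul v ↔ Commute g (v : H) :=
      fun g v => H23.quotientConjEnd_fix_iff Cw W hUV g v
    have hρinj : Function.Injective ρ := by
      refine (injective_iff_map_eq_one ρ).2 fun y hy => ?_
      obtain ⟨g, rfl⟩ := hqs y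
      refine (QuotientGroup.eq_one_iff g).2 (mem_centralizer_iff.2 fun v hv => ?_)
      exact ((hρfix g ⟨v, hv⟩).1 (by rw [hy]; rfl)).symm.eq
    set T' := T.mapSurjective hqs with hT'
    have hT'coe : (T' : Subgroup (H ⧸ Cw)) = (T : Subgroup H).map q := rfl
    have hO : ∀ N : Subgroup (H ⧸ Cw), N.Normal → IsPGroup 2 N → N = ⊥ := by
      intro N hNn hNp
      have hle : N ≤ (T : Subgroup H).map q := by
        rw [← hT'coe]; exact (H19.le_pCore hNn hNp).trans (H19.pCore_le_sylow T')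
      rw [eq_bot_iff]
      intro y hy
      obtain ⟨g, rfl⟩ := hqs y
      refine mem_bot.2 ((QuotientGroup.eq_one_iff g).2 ?_)
      have hU : N.comap q ≤ centralizer ({x} : Set H) := by
        intro u hu
        obtain ⟨t, ht, htu⟩ := hle hu
        have h1 : t⁻¹ * u ∈ Cw := QuotientGroup.eq.1 htu
        have h2 := ((hTx t ht).mul_left (hCwx _ h1))
        rw [mul_inv_cancel_left] at h2
        exact mem_centralizer_singleton_iff.2 h2.eq
      haveI : (N.comap q).Normal := hNn.comap q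
      have hWle : W ≤ centralizer ((N.comap q : Subgroup H) : Set H) :=
        normalClosure_le_normal (Set.singleton_subset_iff.2 (mem_centralizer_iff.2 fun u hu =>
          mem_centralizer_singleton_iff.1 (hU hu)))
      exact le_centralizer_iff.1 hWle (show g ∈ N.comap q from hy)
    have hS3 : ¬ Involves (Equiv.Perm (Fin 3)) (H ⧸ Cw) := by
      -- remove the normal complement of `C`
      set Z := CT.subgroupOf C with hZ
      have hZp : IsPGroup 2 Z := (T.2.to_le inf_le_left).of_equiv (subgroupOfEquivOfLe inf_le_right).symm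
      have hZi : ¬ 2 ∣ Z.index := by
        show ¬ 2 ∣ CT.relIndex C
        rw [hCT, inf_relIndex_right]
        exact H22.sylow_not_dvd_relIndex_normal T C
      set ZS := hZp.toSylow hZi with hZS
      have hnorm : normalizer ((ZS : Subgroup C) : Set C) ≤ centralizer ((ZS : Subgroup C) : Set C) :=
        fun c _ => mem_centralizer_iff.2 fun d hd =>
          Subtype.ext (mem_centralizer_iff.1 c.2 d (hCTP hd))
      have hnpc : HasNormalPComplement 2 C :=
        ⟨ZS, _, inferInstance, MonoidHom.ker_transferSylow_isComplement' ZS hnorm⟩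
      set O := (pResidual 2 C).map C.subtype with hOdef
      haveI : (pResidual 2 C).Normal := H22.pResidual_normal
      haveI hOn : O.Normal := ConjAct.normal_of_characteristic_of_normal
      have hOodd : ¬ 2 ∣ Nat.card O := by
        rw [hOdef, card_map_of_injective C.subtype_injective]
        exact H22.hasNormalPComplement_iff.1 hnpc
      have hCeq : C ≤ O ⊔ CT := by
        have h := congrArg (Subgroup.map C.subtype) (H22.pResidual_sup_sylow ZS)
        rw [Subgroup.map_sup, show ((ZS : Subgroup C)).map C.subtype = CT from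
          map_subgroupOf_eq_of_le inf_le_right, ← MonoidHom.range_eq_map, range_subtype] at h
        exact h.ge
      have hOCw : O ≤ Cw := (map_subtype_le _).trans (centralizer_le (SetLike.coe_subset_coe.2 hWP))
      have hPO : P ⊓ O = ⊥ := by
        obtain ⟨j, hj⟩ := (hPp.to_le (inf_le_left : P ⊓ O ≤ P)).exists_card_eq
        refine eq_bot_of_card_eq _ ?_
        rcases Nat.eq_zero_or_pos j with h0 | hpos
        · rw [hj, h0, pow_zero]
        · exact absurd ((dvd_pow_self 2 hpos.ne').trans (hj ▸ card_dvd_of_le inf_le_right)) hOodd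
      set r := QuotientGroup.mk' O with hr
      have hrs : Function.Surjective r := QuotientGroup.mk'_surjective O
      have hPbar : P.map r ≤ pCore 2 (H ⧸ O) := H19.le_pCore (hPn.map r hrs) (hPp.map r)
      have hchar : centralizer (pCore 2 (H ⧸ O) : Set (H ⧸ O)) ≤ pCore 2 (H ⧸ O) := by
        intro y hy
        obtain ⟨g, rfl⟩ := hrs y
        have hgC : g ∈ C := mem_centralizer_iff.2 fun u hu => by
          have h1 := mem_centralizer_iff.1 hy (r u) (hPbar (mem_map_of_mem r hu))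
          rw [← map_mul, ← map_mul] at h1
          have h2 : (u * g)⁻¹ * (g * u) ∈ P ⊓ O := by
            refine ⟨?_, QuotientGroup.eq.1 h1⟩
            have := mul_mem (hPn.conj_mem _ (inv_mem hu) g⁻¹) hu
            simpa [mul_assoc] using this
          rw [hPO, mem_bot, inv_mul_eq_one] at h2
          exact h2
        obtain ⟨o, ho, c, hc, rfl⟩ := mem_sup_of_normal_left.1 (hCeq hgC)
        rw [map_mul, show r o = 1 from (QuotientGroup.eq_one_iff o).2 ho, one_mul]
        exact hPbar (mem_map_of_mem r (hCTP hc))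
      have h3 := H83.not_involves_s3_of_char_two hchar fun hi => h4 (H83.involves_of_quotient hi)
      intro hi
      refine h3 (H83.involves_of_surjective_hom (QuotientGroup.map O Cw (MonoidHom.id H) hOCw) ?_ hi)
      intro y
      obtain ⟨g, rfl⟩ := hqs y
      exact ⟨r g, rfl⟩
    -- an offender
    obtain ⟨A, hA, hAC⟩ : ∃ A, IsMaxAb (T : Subgroup H) A ∧ ¬ A ≤ Cw := by
      by_contra h
      push Not at h
      exact hJ (by rw [thompsonSubgroupAOf_eq]; exact sSup_le h)
    have hcardfix : ∀ B : Subgroup H, Nat.card (H23.fixedAdd ρ (B.map q)) =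
        Nat.card (W ⊓ centralizer (B : Set H) : Subgroup H) := by
      intro B
      refine Nat.card_congr
        { toFun := fun m => ⟨(Additive.toMul m.1 : W), (Additive.toMul m.1 : W).2,
            mem_centralizer_iff.2 fun b hb => ((hρfix b (Additive.toMul m.1)).1
              (H23.mem_fixedAdd.1 m.2 _ (mem_map_of_mem q hb))).eq⟩
          invFun := fun v => ⟨Additive.ofMul ⟨v, v.2.1⟩, H23.mem_fixedAdd.2 fun y hy => by
            obtain ⟨b, hb, rfl⟩ := hy
            exact (hρfix b _).2 (mem_centralizer_iff.1 v.2.2 b hb)⟩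
          left_inv := fun m => rfl
          right_inv := fun v => rfl }
    have hAbest : ∀ B' ≤ A.map q, Nat.card B' * Nat.card (H23.fixedAdd ρ B') ≤
        Nat.card (A.map q) * Nat.card (H23.fixedAdd ρ (A.map q)) := by
      intro B' hB'
      set A' := A ⊓ B'.comap q with hA'
      have hmap : A'.map q = B' := by
        refine le_antisymm ((map_mono inf_le_right).trans (map_comap_le _ _)) fun y hy => ?_
        obtain ⟨a, ha, rfl⟩ := hB' hy
        exact ⟨a, ⟨ha, hy⟩, rfl⟩
      have hinf : A' ⊓ Cw = A ⊓ Cw := by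
        refine le_antisymm (inf_le_inf_right _ inf_le_left) fun y hy => ⟨⟨hy.1, ?_⟩, hy.2⟩
        show q y ∈ B'
        rw [show q y = 1 from (QuotientGroup.eq_one_iff y).2 hy.2]
        exact one_mem B'
      have h := hA.offNum_le hWT hWc A' inf_le_left
      rw [H34.offNum, H34.offNum, H19.card_eq_card_map_mul Cw A', H19.card_eq_card_map_mul Cw A,
        hinf, ← hcardfix, ← hcardfix, hmap] at h
      rw [← hq] at h
      refine Nat.le_of_mul_le_mul_left ?_ (Nat.card_pos (α := (A ⊓ Cw : Subgroup H)))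
      calc _ = _ := by ring
        _ ≤ _ := h
        _ = _ := by ring
    intro h
    refine hMfix h ?_
    refine fixed_of_no_transvection (p := 2) ρ T' ?_ hMp xM ?_ ⟨k, hexp _⟩
      (fun y => by obtain ⟨g, rfl⟩ := hqs y; exact hpx g) ?_
      (A := A.map q) (map_mono hA.1) ?_ ?_ hAbest (q h)
    · intro b hb1 hb2
      by_contra hle
      rw [not_lt] at hle
      exact hS3 (involves_s3_of_transvection ρ hρinj (fun m => ⟨k, hexp m⟩) hO hb1
        (by rw [← pow_two]; exact hb2) hle)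
    · rintro _ ⟨t, ht, rfl⟩
      exact (hρfix t ⟨x, hxW⟩).2 (hTx t ht)
    · intro J hJne _ hTJ y hy
      obtain ⟨g, rfl⟩ := hqs y
      have hH0 : (normalizer (J : Set (H ⧸ Cw))).comap q ≠ ⊤ := by
        intro e
        have e' : normalizer (J : Set (H ⧸ Cw)) = ⊤ := by
          rw [← map_comap_eq_self_of_surjective hqs (normalizer (J : Set (H ⧸ Cw))), e,
            map_top_of_surjective q hqs]
        exact hJne (hO J (normalizer_eq_top_iff.1 e') (T'.2.to_le ‹J ≤ _›))
      exact (hρfix g ⟨x, hxW⟩).2 (hsub _ (map_le_iff_le_comap.1 hTJ) hH0 g hy)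
    · intro e
      exact hAC fun a ha => (QuotientGroup.eq_one_iff a).1 (mem_bot.1 (e ▸ mem_map_of_mem q ha))
    · rintro _ ⟨a, ha, rfl⟩ _ ⟨b, hb, rfl⟩
      exact (hA.2.1 a ha b hb).map q

/-- **Glauberman's theorem**, local form. -/
theorem local_fixed (n : ℕ) : ∀ (H : Type u) [Group H] [Finite H], Nat.card H = n →
    ∀ (T : Sylow p H) (x z : H), z ∈ (T : Subgroup H) → (∀ t ∈ (T : Subgroup H), Commute t z) →
      x ∈ pCore p H → LocalCase p H x z →
      (∀ n ∈ normalizer (thompsonSubgroupAOf (T : Subgroup H) : Set H), Commute n x) →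
      ∀ h : H, Commute h x := by
  induction n using Nat.strong_induction_on with
  | _ n ih =>
    intro H _ _ hn T
    suffices hm : ∀ (m : ℕ) (x z : H), orderOf x = m → z ∈ (T : Subgroup H) →
        (∀ t ∈ (T : Subgroup H), Commute t z) → x ∈ pCore p H → LocalCase p H x z →
        (∀ n ∈ normalizer (thompsonSubgroupAOf (T : Subgroup H) : Set H), Commute n x) →
        ∀ h : H, Commute h x from fun x z => hm _ x z rfl
    intro m
    induction m using Nat.strong_induction_on with
    | _ m ihm =>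
      intro x z hm hz hzT hxO hcase hN
      refine local_fixed_step T x z hz hzT hxO hcase hN (fun H1 hTH1 hH1 h hh => ?_) (fun h => ?_)
      · -- proper overgroups
        have hlt : Nat.card H1 < n := hn ▸ H19.card_lt_of_ne_top H1 hH1
        have hxH1 : x ∈ H1 := hTH1 (H19.pCore_le_sylow T hxO)
        set T1 := T.subtype hTH1 with hT1
        have hT1coe : (T1 : Subgroup H1) = (T : Subgroup H).subgroupOf H1 := Sylow.coe_subtype ..
        have hxO1 : (⟨x, hxH1⟩ : H1) ∈ pCore p H1 := by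
          haveI := H19.pCore_normal p H
          have hp1 : IsPGroup p ((pCore p H).subgroupOf H1) :=
            (H19.pCore_isPGroup p).of_equiv
              (subgroupOfEquivOfLe ((H19.pCore_le_sylow T).trans hTH1)).symm
          exact H19.le_pCore Subgroup.normal_subgroupOf hp1 hxO
        have hinj : Set.InjOn H1.subtype ((T1 : Subgroup H1) : Set H1) := H1.subtype_injective.injOn
        have hJ := map_thompsonSubgroupAOf H1.subtype (T1 : Subgroup H1) hinj
        rw [hT1coe, map_subgroupOf_eq_of_le hTH1] at hJ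
        have hcase1 : LocalCase p H1 ⟨x, hxH1⟩ ⟨z, hTH1 hz⟩ := by
          rcases hcase with ⟨h1, h2⟩ | h2 | ⟨h1, h2, h3⟩
          · exact Or.inl ⟨h1, Subtype.ext h2⟩
          · exact Or.inr (Or.inl (Subtype.ext h2))
          · exact Or.inr (Or.inr ⟨h1, Subtype.ext h2, fun hi => h3 (H83.involves_of_subgroup hi)⟩)
        have key := ih _ hlt H1 rfl T1 ⟨x, hxH1⟩ ⟨z, hTH1 hz⟩ (by rw [hT1coe]; exact hz)
          (fun t ht => Subtype.ext (hzT t (by rw [hT1coe] at ht; exact ht)).eq) hxO1 hcase1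
          (fun k hk => Subtype.ext (hN k (by
            rw [← hJ, ← hT1coe]
            exact le_normalizer_map _ ⟨k, hk, rfl⟩)).eq) ⟨h, hh⟩
        exact congrArg Subtype.val key.eq
      · -- `x ^ p`
        rcases eq_or_ne x 1 with rfl | hx1
        · rw [one_pow]; exact Commute.one_right h
        have hxT : x ∈ (T : Subgroup H) := H19.pCore_le_sylow T hxO
        have hTx : ∀ t ∈ (T : Subgroup H), Commute t x := fun t ht =>
          hN t (le_normalizer_thompsonSubgroupAOf _ ht)
        have hlt : orderOf (x ^ p) < m := by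
          rw [← hm]
          obtain ⟨k, hk⟩ := T.2 ⟨x, hxT⟩
          have hk' : x ^ p ^ k = 1 := congrArg Subtype.val hk
          obtain ⟨j, -, hj⟩ := (Nat.dvd_prime_pow hp.out).1 (orderOf_dvd_of_pow_eq_one hk')
          have hj0 : j ≠ 0 := fun e => hx1 (orderOf_eq_one_iff.1 (by rw [hj, e, pow_zero]))
          rw [orderOf_pow_of_dvd hp.out.ne_zero (hj ▸ dvd_pow_self p hj0)]
          exact Nat.div_lt_self (orderOf_pos x) hp.out.one_lt
        exact ihm _ hlt (x ^ p) x rfl hxT hTx (pow_mem hxO p) (Or.inr (Or.inl rfl))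
          (fun k hk => (hN k hk).pow_right p) h

end Cfsg.Agent.H72
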