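import Mathlib
import Cfsg.Agent.H19.Frattini

/-!
The norm argument for control of fixed points: if `z` is fixed by a Sylow subgroup `T` and `x = φ z`
by the normalizer of a weakly closed `J ≤ T` generated by subgroups whose maximal subgroups behave
well, then `x` is fixed by the whole group.
-/

set_option autoImplicit false
set_option linter.style.haveILetI false

namespace Cfsg.Agent.H72

open Finset

variable {Y : Type*} [Group Y] [Finite Y] {M : Type*} [AddCommGroup M]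

/-- The orbit of a point of the coset space under a subgroup. -/
noncomputable def orb (T E : Subgroup Y) (q : Y ⧸ T) : Finset (Y ⧸ T) :=
  (Set.toFinite (MulAction.orbit E q)).toFinset

theorem mem_orb {T E : Subgroup Y} {q r : Y ⧸ T} : r ∈ orb T E q ↔ ∃ e ∈ E, e • q = r := by
  simp only [orb, Set.Finite.mem_toFinset, MulAction.mem_orbit_iff, Subgroup.smul_def]
  exact ⟨fun ⟨e, he⟩ => ⟨e, e.2, he⟩, fun ⟨e, he, h⟩ => ⟨⟨e, he⟩, h⟩⟩

theorem self_mem_orb {T E : Subgroup Y} (q : Y ⧸ T) : q ∈ orb T E q :=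
  mem_orb.2 ⟨1, one_mem E, one_smul _ q⟩

/-- An orbit of `E` is made of `p` translates of an orbit of a normal subgroup of index `p`
containing the stabiliser. -/
theorem orb_eq_disjiUnion {p : ℕ} [hp : Fact p.Prime] {T : Subgroup Y} {E E0 : Subgroup Y}
    (h0 : E0 ≤ E) (hnorm : ∀ e ∈ E, ∀ d ∈ E0, e * d * e⁻¹ ∈ E0) (hidx : E0.relIndex E = p)
    {a : Y} (ha : a ∈ E) (ha0 : a ∉ E0) {q : Y ⧸ T} (hq : ∀ e ∈ E, e • q = q → e ∈ E0)
    (F : Y ⧸ T → M) :
    ∑ r ∈ orb T E q, F r = ∑ j ∈ range p, ∑ r ∈ orb T E0 q, F (a ^ j • r) ∧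
      (orb T E q).card = p * (orb T E0 q).card := by
  classical
  haveI hn : (E0.subgroupOf E).Normal := ⟨fun d hd e => hnorm e e.2 d hd⟩
  set a' : E ⧸ E0.subgroupOf E := QuotientGroup.mk (⟨a, ha⟩ : E) with ha'
  have hcard : Nat.card (E ⧸ E0.subgroupOf E) = p := hidx
  have ha'1 : a' ≠ 1 := fun h => ha0 ((QuotientGroup.eq_one_iff (N := E0.subgroupOf E) (⟨a, ha⟩ : E)).1 h)
  have hzp : Subgroup.zpowers a' = ⊤ := by
    haveI : Fact (Nat.card (E ⧸ E0.subgroupOf E)).Prime := ⟨hcard.symm ▸ hp.out⟩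
    exact zpowers_eq_top_of_prime_card hcard ha'1
  have hord : orderOf a' = p := by
    rw [← Nat.card_zpowers, hzp, Subgroup.card_top, hcard]
  have hkey : ∀ j, j < p → ∀ k, k < p → ∀ r ∈ orb T E0 q, ∀ s ∈ orb T E0 q,
      a ^ j • r = a ^ k • s → j = k ∧ r = s := by
    intro j hj k hk r hr s hs h
    obtain ⟨d, hd, rfl⟩ := mem_orb.1 hr
    obtain ⟨d', hd', rfl⟩ := mem_orb.1 hs
    rw [← mul_smul, ← mul_smul] at h
    have h1 : (d'⁻¹ * (a ^ k)⁻¹ * (a ^ j * d)) • q = q := by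
      rw [mul_smul, h, ← mul_smul, mul_assoc, inv_mul_cancel_left, inv_mul_cancel, one_smul]
    have hmem := hq _ (mul_mem (mul_mem (inv_mem (h0 hd')) (inv_mem (pow_mem ha k)))
      (mul_mem (pow_mem ha j) (h0 hd))) h1
    have h2 : (a ^ k)⁻¹ * a ^ j ∈ E0 := by
      have := mul_mem (mul_mem hd' hmem) (inv_mem hd)
      simpa [mul_assoc] using this
    have h3 : a' ^ k = a' ^ j := by
      rw [ha', ← QuotientGroup.mk_pow, ← QuotientGroup.mk_pow]
      exact QuotientGroup.eq.2 h2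
    have hjk : j = k := (pow_injOn_Iio_orderOf (x := a') (by simpa [hord] using hk)
      (by simpa [hord] using hj) h3).symm
    subst hjk
    exact ⟨rfl, MulAction.injective (a ^ j) ((mul_smul _ _ _).symm.trans (h.trans (mul_smul _ _ _)))⟩
  have himg : orb T E q = (range p ×ˢ orb T E0 q).image fun x => a ^ x.1 • x.2 := by
    ext r
    simp only [mem_orb, mem_image, mem_product, mem_range, Prod.exists]
    constructor
    · rintro ⟨e, he, rfl⟩
      have h1 : (QuotientGroup.mk (⟨e, he⟩ : E) : E ⧸ E0.subgroupOf E) ∈ Subgroup.zpowers a' := by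
        rw [hzp]; trivial
      rw [← (isOfFinOrder_of_finite a').mem_powers_iff_mem_zpowers,
        (isOfFinOrder_of_finite a').mem_powers_iff_mem_range_orderOf, mem_image] at h1
      obtain ⟨j, hj, hje⟩ := h1
      rw [mem_range, hord] at hj
      rw [ha', ← QuotientGroup.mk_pow] at hje
      have hd : (a ^ j)⁻¹ * e ∈ E0 := (QuotientGroup.eq (s := E0.subgroupOf E)).1 hje
      exact ⟨j, ((a ^ j)⁻¹ * e) • q, ⟨hj, _, hd, rfl⟩, by rw [← mul_smul, mul_inv_cancel_left]⟩
    · rintro ⟨j, r', ⟨-, d, hd, rfl⟩, rfl⟩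
      exact ⟨_, mul_mem (pow_mem ha j) (h0 hd), mul_smul _ _ _⟩
  have hinj : Set.InjOn (fun x : ℕ × Y ⧸ T => a ^ x.1 • x.2)
      ((range p ×ˢ orb T E0 q : Finset (ℕ × Y ⧸ T)) : Set (ℕ × Y ⧸ T)) := by
    rintro ⟨j, r⟩ hjr ⟨k, s⟩ hks h
    simp only [coe_product, Set.mem_prod, mem_coe, mem_range] at hjr hks
    obtain ⟨rfl, rfl⟩ := hkey j hjr.1 k hks.1 r hjr.2 s hks.2 h
    rfl
  constructor
  · rw [himg, sum_image hinj, sum_product]
  · rw [himg, card_image_of_injOn hinj, card_product, card_range]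

variable (ρ : Y →* AddMonoid.End M) (T : Subgroup Y)

/-- **The norm argument.** -/
theorem fixed_of_norm_argument {p : ℕ} [hp : Fact p.Prime] (hT : IsPGroup p T)
    (hidxT : ¬ p ∣ T.index) (𝓕 : Set (Subgroup Y)) (J : Subgroup Y) (hJT : J ≤ T)
    (hJgen : J ≤ sSup {B | B ∈ 𝓕 ∧ B ≤ J})
    (hwc : ∀ g : Y, (∀ t ∈ J, g⁻¹ * t * g ∈ T) → g ∈ Subgroup.normalizer (J : Set Y))
    (hTJ : T ≤ Subgroup.normalizer (J : Set Y))
    (φ : M →+ M) (hφ : ∀ g m, φ (ρ g m) = ρ g (φ m)) (z : M) (hz : ∀ t ∈ T, ρ t z = z)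
    (hJx : ∀ g ∈ Subgroup.normalizer (J : Set Y), ρ g (φ z) = φ z)
    (hpx : ∀ g : Y, p • ρ g (φ z) = p • φ z) (hexp : ∃ k : ℕ, p ^ k • φ z = 0)
    (hstep : ∀ B ∈ 𝓕, B ≤ T → ∀ B0 : Subgroup Y, B0 ≤ B → B0.relIndex B = p →
      ∀ a ∈ B, a ∉ B0 → ∀ v : M, (∀ b ∈ B0, ρ b v = v) →
        ∑ j ∈ range p, ρ (a ^ j) (φ v) = p • φ v) :
    ∀ g : Y, ρ g (φ z) = φ z := by
  classical
  haveI := Fintype.ofFinite (Y ⧸ T)
  set x := φ z with hx
  have hsm : ∀ (a b : Y) (m : M), ρ (a * b) m = ρ a (ρ b m) := fun a b m => by rw [map_mul]; rfl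
  let F : Y ⧸ T → M := Quotient.lift (fun g => ρ g z) fun g g' h => by
    have h := QuotientGroup.leftRel_apply.1 h
    show ρ g z = ρ g' z
    rw [show g' = g * (g⁻¹ * g') by group, hsm g, hz _ h]
  have hF : ∀ (g : Y) (r : Y ⧸ T), F (g • r) = ρ g (F r) := by
    intro g r
    induction r using QuotientGroup.induction_on with
    | H h => exact hsm g h z
  have hFx : ∀ r, p • φ (F r) = p • x := by
    intro r
    induction r using QuotientGroup.induction_on with
    | H h => rw [show F (h : Y ⧸ T) = ρ h z from rfl, hφ]; exact hpx h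
  have hTx : ∀ t ∈ T, ρ t x = x := fun t ht => hJx t (hTJ ht)
  -- the sum over an orbit of `T`
  have horbT : ∀ q : Y ⧸ T, ∑ r ∈ orb T T q, φ (F r) = (orb T T q).card • x := by
    intro q
    induction q using QuotientGroup.induction_on with
    | H g =>
    by_cases hg : ∀ t ∈ J, g⁻¹ * t * g ∈ T
    · rw [sum_congr rfl (g := fun _ => x), sum_const]
      intro r hr
      obtain ⟨t, ht, rfl⟩ := mem_orb.1 hr
      rw [hF, hφ, show F (g : Y ⧸ T) = ρ g z from rfl, hφ, ← hsm]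
      exact hJx _ (mul_mem (hTJ ht) (hwc g hg))
    set q : Y ⧸ T := (g : Y ⧸ T) with hq
    set D := T ⊓ MulAction.stabilizer Y q with hD
    have hJD : ¬ J ≤ D := by
      intro h
      refine hg fun t ht => ?_
      have h1 : t • q = q := (h ht).2
      rw [hq, MulAction.Quotient.smul_mk, eq_comm, QuotientGroup.eq, smul_eq_mul] at h1
      rwa [mul_assoc]
    suffices h : ∀ n, ∀ E : Subgroup Y, Nat.card E = n → D ≤ E → E ≤ T → J ≤ E →
        ∑ r ∈ orb T E q, φ (F r) = (orb T E q).card • x from h _ T rfl inf_le_left le_rfl hJT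
    intro n
    induction n using Nat.strong_induction_on with
    | _ n IH =>
    intro E hn hDE hET hJE
    have hne : D.subgroupOf E ≠ ⊤ := fun h => hJD (hJE.trans (Subgroup.subgroupOf_eq_top.1 h))
    obtain ⟨E0', hE0, hle⟩ := (eq_top_or_exists_le_coatom (D.subgroupOf E)).resolve_left hne
    have hEp : IsPGroup p E := hT.to_le hET
    haveI := hEp.isNilpotent
    haveI hE0n : E0'.Normal := H19.coatom_normal_of_nilpotent hE0
    set E0 := E0'.map E.subtype with hE0def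
    have h0 : E0 ≤ E := Subgroup.map_subtype_le _
    have hE0' : E0.subgroupOf E = E0' := Subgroup.comap_map_eq_self_of_injective E.subtype_injective _
    have hidx : E0.relIndex E = p := by
      show (E0.subgroupOf E).index = p
      rw [hE0']
      exact H19.index_coatom_of_isPGroup hEp hE0
    have hnorm : ∀ e ∈ E, ∀ d ∈ E0, e * d * e⁻¹ ∈ E0 := by
      rintro e he _ ⟨d, hd, rfl⟩
      exact ⟨⟨e, he⟩ * d * ⟨e, he⟩⁻¹, hE0n.conj_mem d hd _, rfl⟩
    have hDE0 : D ≤ E0 := fun d hd => ⟨⟨d, hDE hd⟩, hle hd, rfl⟩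
    have hst : ∀ e ∈ E, e • q = q → e ∈ E0 := fun e he h => hDE0 ⟨hET he, h⟩
    have hlt : Nat.card E0 < n := by
      rw [← hn]
      refine Nat.lt_of_le_of_ne (Subgroup.card_le_of_le h0) fun h => ?_
      have hidx' := hidx
      rw [Subgroup.eq_of_le_of_card_ge h0 h.ge, Subgroup.relIndex_self] at hidx'
      exact hp.out.one_lt.ne hidx'
    obtain ⟨a, ha, ha0, hsum⟩ : ∃ a ∈ E, a ∉ E0 ∧
        ∑ j ∈ range p, ρ (a ^ j) (∑ r ∈ orb T E0 q, φ (F r)) = (p * (orb T E0 q).card) • x := by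
      by_cases hJ0 : J ≤ E0
      · have hsum0 := IH _ hlt E0 rfl hDE0 (h0.trans hET) hJ0
        obtain ⟨a, ha, ha0⟩ : ∃ a ∈ E, a ∉ E0 := by
          by_contra h
          push Not at h
          exact hlt.ne (by rw [le_antisymm h0 h, hn])
        refine ⟨a, ha, ha0, ?_⟩
        rw [hsum0, sum_congr rfl (g := fun _ => (orb T E0 q).card • x) (fun j _ => by
          rw [map_nsmul, hTx _ (hET (pow_mem ha j))]), sum_const, card_range, mul_smul]
      · obtain ⟨B, ⟨hB, hBJ⟩, hB0⟩ : ∃ B, (B ∈ 𝓕 ∧ B ≤ J) ∧ ¬ B ≤ E0 := by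
          by_contra h
          push Not at h
          exact hJ0 (hJgen.trans (sSup_le fun B hB => h B hB))
        obtain ⟨a, haB, ha0⟩ := Set.not_subset.1 hB0
        have ha : a ∈ E := hJE (hBJ haB)
        refine ⟨a, ha, ha0, ?_⟩
        have hBidx : (B ⊓ E0).relIndex B = p := by
          rw [Subgroup.inf_relIndex_left]
          have hdvd : E0.relIndex B ∣ p := by
            rw [← hidx, Subgroup.relIndex, Subgroup.relIndex]
            haveI : (E0.subgroupOf E).Normal := hE0'.symm ▸ hE0n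
            have h1 := Subgroup.relIndex_dvd_index_of_normal (E0.subgroupOf E) (B.subgroupOf E)
            rwa [Subgroup.relIndex_subgroupOf (hBJ.trans hJE)] at h1
          refine (Nat.dvd_prime hp.out).1 hdvd |>.resolve_left fun h => ha0 ?_
          exact Subgroup.relIndex_eq_one.1 h haB
        have hfix : ∀ b ∈ B ⊓ E0, ρ b (∑ r ∈ orb T E0 q, F r) = ∑ r ∈ orb T E0 q, F r := by
          intro b hb
          rw [map_sum, sum_congr rfl (fun r _ => (hF b r).symm)]
          refine sum_bij' (fun r _ => b • r) (fun r _ => b⁻¹ • r) ?_ ?_ ?_ ?_ ?_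
          · intro r hr
            obtain ⟨d, hd, rfl⟩ := mem_orb.1 hr
            exact mem_orb.2 ⟨b * d, mul_mem hb.2 hd, mul_smul _ _ _⟩
          · intro r hr
            obtain ⟨d, hd, rfl⟩ := mem_orb.1 hr
            exact mem_orb.2 ⟨b⁻¹ * d, mul_mem (inv_mem hb.2) hd, mul_smul _ _ _⟩
          all_goals intros; simp
        have := hstep B hB (hBJ.trans hJT) (B ⊓ E0) inf_le_left hBidx a haB (fun h => ha0 h.2) _ hfix
        rw [map_sum] at this
        rw [this, smul_sum, sum_congr rfl (fun r _ => hFx r), sum_const, ← mul_smul, mul_comm]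
    obtain ⟨hs, hc⟩ := orb_eq_disjiUnion (M := M) h0 hnorm hidx ha ha0 hst (fun r => φ (F r))
    rw [hs, hc, ← hsum]
    refine sum_congr rfl fun j _ => ?_
    rw [map_sum]
    exact sum_congr rfl fun r _ => by rw [hF, hφ]
  -- the norm
  have hnorm : ∑ r : Y ⧸ T, φ (F r) = Nat.card (Y ⧸ T) • x := by
    have hmap : ∀ r : Y ⧸ T, r ∈ (univ : Finset (Y ⧸ T)) → orb T T r ∈ univ.image (orb T T) :=
      fun r _ => mem_image_of_mem _ (mem_univ r)
    have hfib : ∀ q : Y ⧸ T, (univ.filter fun r => orb T T r = orb T T q) = orb T T q := by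
      intro q
      ext r
      simp only [mem_filter, mem_univ, true_and]
      refine ⟨fun h => h ▸ self_mem_orb r, fun h => ?_⟩
      obtain ⟨t, ht, rfl⟩ := mem_orb.1 h
      ext s
      simp only [mem_orb]
      exact ⟨fun ⟨e, he, h⟩ => ⟨e * t, mul_mem he ht, by rw [mul_smul, h]⟩,
        fun ⟨e, he, h⟩ => ⟨e * t⁻¹, mul_mem he (inv_mem ht), by rw [← mul_smul, inv_mul_cancel_right, h]⟩⟩
    rw [Nat.card_eq_fintype_card, ← card_univ, ← sum_const, ← sum_fiberwise_of_maps_to hmap,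
      ← sum_fiberwise_of_maps_to hmap (fun _ => x)]
    refine sum_congr rfl fun O hO => ?_
    obtain ⟨q, -, rfl⟩ := mem_image.1 hO
    rw [hfib, horbT, sum_const]
  intro g
  have hgfix : ρ g (Nat.card (Y ⧸ T) • x) = Nat.card (Y ⧸ T) • x := by
    rw [← hnorm, map_sum, sum_congr rfl (fun r _ => (hφ g (F r)).symm)]
    refine sum_bij' (fun r _ => g • r) (fun r _ => g⁻¹ • r) ?_ ?_ ?_ ?_ ?_
    any_goals intros; simp
    intros
    simp [hF]
  obtain ⟨k, hk⟩ := hexp
  have hcop : (Nat.card (Y ⧸ T)).Coprime (p ^ k) :=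
    ((hp.out.coprime_iff_not_dvd.2 hidxT).symm).pow_right k
  have h1 : Nat.card (Y ⧸ T) • (ρ g x - x) = 0 := by
    rw [smul_sub, ← map_nsmul, hgfix, sub_self]
  have h2 : p ^ k • (ρ g x - x) = 0 := by
    rw [smul_sub, ← map_nsmul, hk, map_zero, sub_self]
  have h3 : addOrderOf (ρ g x - x) ∣ 1 := by
    rw [← hcop]
    exact Nat.dvd_gcd (addOrderOf_dvd_of_nsmul_eq_zero h1) (addOrderOf_dvd_of_nsmul_eq_zero h2)
  exact sub_eq_zero.1 (AddMonoid.addOrderOf_eq_one_iff.1 (Nat.dvd_one.1 h3))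

end Cfsg.Agent.H72
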