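import Mathlib
import Cfsg.Agent.H23.FixedIndex

/-!
A quadratic elementary abelian 2-group acting faithfully on an abelian group of odd order is not
an offender on a module over a field with two elements unless it inverts an element of order 3.
-/

set_option linter.style.haveILetI false

namespace Cfsg.Agent.H72

variable {Y : Type*} [Group Y] [Finite Y] {M : Type*} [AddCommGroup M] [Finite M]
  (ρ : Y →* AddMonoid.End M)

/-- The fixed points of `T` in `N`. -/
def fixIn (N : AddSubgroup M) (T : Subgroup Y) : AddSubgroup M := N ⊓ H23.fixedAdd ρ T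

omit [Finite Y] [Finite M] in
theorem rho_mul_apply (a b : Y) (m : M) : ρ (a * b) m = ρ a (ρ b m) := by
  rw [map_mul]; rfl

omit [Finite Y] [Finite M] in
theorem rho_one_apply (m : M) : ρ 1 m = m := by
  rw [map_one]; rfl

omit [Finite Y] [Finite M] in
theorem rho_inv_apply (a : Y) (m : M) : ρ a⁻¹ (ρ a m) = m := by
  rw [← rho_mul_apply, inv_mul_cancel, rho_one_apply]

omit [Finite Y] in
theorem eq_one_of_sq_eq_one_of_odd {y : Y} (h : y * y = 1) (hodd : Odd (orderOf y)) : y = 1 := by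
  obtain ⟨k, hk⟩ := hodd
  have h1 : y ^ orderOf y = 1 := pow_orderOf_eq_one y
  rwa [hk, pow_succ, pow_mul, pow_two, h, one_pow, one_mul] at h1

/-- Some element of `Q` is inverted by `t`, nontrivial on `N`, and centralized or inverted by each
element of `T`. -/
theorem exists_split_element (Q T : Subgroup Y)
    (hQc : ∀ a ∈ Q, ∀ b ∈ Q, Commute a b) (hodd : ∀ d ∈ Q, Odd (orderOf d))
    (hTN : ∀ t ∈ T, ∀ d ∈ Q, t * d * t⁻¹ ∈ Q) (hT2 : ∀ t ∈ T, t * t = 1)
    (hTc : ∀ s ∈ T, ∀ t ∈ T, Commute s t)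
    (Ker : Subgroup Y) {t : Y} (ht : t ∈ T) {z : Y} (hz : z ∈ Q) (hzK : z ∉ Ker)
    (hzt : t * z * t⁻¹ = z⁻¹) :
    ∃ y ∈ Q, y ∉ Ker ∧ t * y * t⁻¹ = y⁻¹ ∧ ∀ s ∈ T, s * y * s⁻¹ = y ∨ s * y * s⁻¹ = y⁻¹ := by
  classical
  suffices h : ∀ F : Finset Y, (∀ s ∈ F, s ∈ T) →
      ∃ y ∈ Q, y ∉ Ker ∧ t * y * t⁻¹ = y⁻¹ ∧ ∀ s ∈ F, s * y * s⁻¹ = y ∨ s * y * s⁻¹ = y⁻¹ by
    haveI := Fintype.ofFinite Y
    obtain ⟨y, h1, h2, h3, h4⟩ := h (Finset.univ.filter (fun s => s ∈ T)) (by simp)
    exact ⟨y, h1, h2, h3, fun s hs => h4 s (by simp [hs])⟩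
  intro F
  induction F using Finset.induction_on with
  | empty => exact fun _ => ⟨z, hz, hzK, hzt, by simp⟩
  | @insert s F hsF ih =>
    intro hF
    obtain ⟨y, hy, hyK, hyt, hyF⟩ := ih fun r hr => hF r (Finset.mem_insert_of_mem hr)
    have hsT : s ∈ T := hF s (Finset.mem_insert_self _ _)
    set y' := s * y * s⁻¹ with hy'
    have hy'Q : y' ∈ Q := hTN s hsT y hy
    have hinv : s⁻¹ = s := inv_eq_of_mul_eq_one_left (hT2 s hsT)
    have hss : s * y' * s⁻¹ = y := by
      rw [hy']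
      calc s * (s * y * s⁻¹) * s⁻¹ = (s * s) * y * (s * s)⁻¹ := by group
        _ = y := by rw [hT2 s hsT]; simp
    have hty' : t * y' * t⁻¹ = y'⁻¹ := by
      rw [hy']
      calc t * (s * y * s⁻¹) * t⁻¹ = (t * s) * y * (t * s)⁻¹ := by group
        _ = (s * t) * y * (s * t)⁻¹ := by rw [(hTc t ht s hsT).eq]
        _ = s * (t * y * t⁻¹) * s⁻¹ := by group
        _ = (s * y * s⁻¹)⁻¹ := by rw [hyt]; group
    -- conjugates of a product by an element of `T`
    have hprod : ∀ r a b : Y, r * (a * b) * r⁻¹ = (r * a * r⁻¹) * (r * b * r⁻¹) := by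
      intro r a b; group
    have hinvc : ∀ r a : Y, r * a⁻¹ * r⁻¹ = (r * a * r⁻¹)⁻¹ := by intro r a; group
    have hkeep : ∀ r ∈ T, (r * y * r⁻¹ = y ∨ r * y * r⁻¹ = y⁻¹) →
        (r * y * r⁻¹ = y ∧ r * y' * r⁻¹ = y') ∨ (r * y * r⁻¹ = y⁻¹ ∧ r * y' * r⁻¹ = y'⁻¹) := by
      intro r hr h
      have hcr : r * y' * r⁻¹ = s * (r * y * r⁻¹) * s⁻¹ := by
        rw [hy']
        calc r * (s * y * s⁻¹) * r⁻¹ = (r * s) * y * (r * s)⁻¹ := by group
          _ = (s * r) * y * (s * r)⁻¹ := by rw [(hTc r hr s hsT).eq]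
          _ = _ := by group
      rcases h with h | h
      · exact Or.inl ⟨h, by rw [hcr, h, hy']⟩
      · exact Or.inr ⟨h, by rw [hcr, h, hinvc, hy']⟩
    have hcomm : Commute y y' := hQc y hy y' hy'Q
    by_cases hK : y * y' ∈ Ker
    · refine ⟨y * y'⁻¹, mul_mem hy (inv_mem hy'Q), ?_, ?_, ?_⟩
      · intro hK2
        have h2 : y * y ∈ Ker := by
          have := mul_mem hK hK2
          rwa [show y * y' * (y * y'⁻¹) = y * y by
            rw [mul_assoc, ← mul_assoc y', ← hcomm.eq, mul_assoc, mul_inv_cancel, mul_one]] at this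
        apply hyK
        obtain ⟨k, hk⟩ := hodd y hy
        have h1 : y = (y * y) ^ (k + 1) := by
          rw [← pow_two, ← pow_mul, show 2 * (k + 1) = orderOf y + 1 by omega, pow_succ,
            pow_orderOf_eq_one, one_mul]
        rw [h1]; exact pow_mem h2 _
      · rw [hprod, hinvc, hyt, hty', inv_inv, mul_inv_rev, inv_inv]
        exact (hcomm.inv_left).eq
      · intro r hr
        rcases Finset.mem_insert.1 hr with rfl | hr
        · right
          rw [hprod, hinvc, ← hy', hss, mul_inv_rev, inv_inv]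
        · rcases hkeep r (hF r (Finset.mem_insert_of_mem hr)) (hyF r hr) with ⟨h1, h2⟩ | ⟨h1, h2⟩
          · left; rw [hprod, hinvc, h1, h2]
          · right
            rw [hprod, hinvc, h1, h2, inv_inv, mul_inv_rev, inv_inv]
            exact (hcomm.inv_left).eq
    · refine ⟨y * y', mul_mem hy hy'Q, hK, ?_, ?_⟩
      · rw [hprod, hyt, hty', ← mul_inv_rev, hcomm.eq]
      · intro r hr
        rcases Finset.mem_insert.1 hr with rfl | hr
        · left
          rw [hprod, ← hy', hss, hcomm.eq]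
        · rcases hkeep r (hF r (Finset.mem_insert_of_mem hr)) (hyF r hr) with ⟨h1, h2⟩ | ⟨h1, h2⟩
          · left; rw [hprod, h1, h2]
          · right; rw [hprod, h1, h2, ← mul_inv_rev, hcomm.eq]

set_option maxHeartbeats 2000000 in
theorem offender_two_aux (hM : ∀ m : M, m + m = 0) (Q : Subgroup Y)
    (hQc : ∀ a ∈ Q, ∀ b ∈ Q, Commute a b) (hodd : ∀ d ∈ Q, Odd (orderOf d)) (k : ℕ) :
    ∀ (T : Subgroup Y), Nat.card T ≤ k → (∀ t ∈ T, ∀ d ∈ Q, t * d * t⁻¹ ∈ Q) →
      (∀ t ∈ T, t * t = 1) → (∀ s ∈ T, ∀ t ∈ T, Commute s t) →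
      (∀ s ∈ T, ∀ t ∈ T, ∀ m : M, ρ s (ρ t m) + ρ s m + ρ t m + m = 0) →
      (∀ x ∈ Q, x ^ 3 = 1 → x ≠ 1 → ∀ t ∈ T, t * x * t⁻¹ ≠ x⁻¹) →
      ∀ (N : AddSubgroup M), (∀ t ∈ T, ∀ m ∈ N, ρ t m ∈ N) → (∀ d ∈ Q, ∀ m ∈ N, ρ d m ∈ N) →
      (∀ t ∈ T, (∀ d ∈ Q, ∀ m ∈ N, ρ (d * t * d⁻¹ * t⁻¹) m = m) → t = 1) →
      Nat.card T * Nat.card (fixIn ρ N T) ≤ Nat.card N ∧
        (T ≠ ⊥ → Nat.card T * Nat.card (fixIn ρ N T) < Nat.card N) := by
  induction k with
  | zero =>
    intro T hT
    have : 0 < Nat.card T := Nat.card_pos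
    omega
  | succ k ih =>
    intro T hTk hTN hT2 hTc hquad h3 N hTNN hQNN hfaith
    rcases eq_or_ne T ⊥ with rfl | hTne
    · refine ⟨?_, fun h => absurd rfl h⟩
      rw [Subgroup.card_bot, one_mul]
      exact Nat.card_le_card_of_injective (fun x => (⟨x.1, x.2.1⟩ : N))
        fun a b h => Subtype.ext (congrArg (fun z : N => (z : M)) h :)
    suffices hlt : Nat.card T * Nat.card (fixIn ρ N T) < Nat.card N from ⟨hlt.le, fun _ => hlt⟩
    -- the kernel on `N`
    let Ker : Subgroup Y :=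
      { carrier := {x | ∀ m ∈ N, ρ x m = m}
        one_mem' := fun m _ => rho_one_apply ρ m
        mul_mem' := fun {a b} ha hb m hm => by rw [rho_mul_apply, hb m hm, ha m hm]
        inv_mem' := fun {a} ha m hm => by
          nth_rw 1 [← ha m hm]
          rw [rho_inv_apply] }
    obtain ⟨t₀, ht₀, ht₀1⟩ := (Subgroup.bot_or_exists_ne_one T).resolve_left hTne
    obtain ⟨d, hd, hdK⟩ : ∃ d ∈ Q, d * t₀ * d⁻¹ * t₀⁻¹ ∉ Ker := by
      by_contra hcon
      simp only [not_exists, not_and, not_not] at hcon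
      exact ht₀1 (hfaith t₀ ht₀ hcon)
    set z₀ := d * t₀ * d⁻¹ * t₀⁻¹ with hz₀
    have hz₀Q : z₀ ∈ Q := by
      rw [hz₀, show d * t₀ * d⁻¹ * t₀⁻¹ = d * (t₀ * d⁻¹ * t₀⁻¹) by group]
      exact mul_mem hd (hTN t₀ ht₀ _ (inv_mem hd))
    have hz₀t : t₀ * z₀ * t₀⁻¹ = z₀⁻¹ := by
      have e : t₀ * d * t₀⁻¹ ∈ Q := hTN t₀ ht₀ d hd
      rw [hz₀]
      calc t₀ * (d * t₀ * d⁻¹ * t₀⁻¹) * t₀⁻¹
          = (t₀ * d * t₀⁻¹) * ((t₀ * t₀) * d⁻¹ * (t₀ * t₀)⁻¹) := by group
        _ = (t₀ * d * t₀⁻¹) * d⁻¹ := by rw [hT2 t₀ ht₀]; simp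
        _ = _ := by group
    obtain ⟨y, hyQ, hyK, hyt, hysplit⟩ :=
      exists_split_element Q T hQc hodd hTN hT2 hTc Ker ht₀ hz₀Q hdK hz₀t
    have hy3 : ¬ ∀ m ∈ N, ρ (y ^ 3) m = m := by
      intro hy3
      have hdvd : 3 ∣ orderOf y := by
        by_contra hnd
        obtain ⟨j, hj⟩ := exists_pow_eq_self_of_coprime
          ((Nat.Prime.coprime_iff_not_dvd Nat.prime_three).2 hnd)
        exact hyK (hj ▸ pow_mem (show y ^ 3 ∈ Ker from hy3) j)
      set x := y ^ (orderOf y / 3) with hx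
      have hx3 : x ^ 3 = 1 := by
        rw [hx, ← pow_mul, Nat.div_mul_cancel hdvd, pow_orderOf_eq_one]
      have hxne : x ≠ 1 := by
        intro h
        have := orderOf_dvd_of_pow_eq_one h
        have h2 := Nat.le_of_dvd (Nat.div_pos (Nat.le_of_dvd (orderOf_pos y) hdvd) (by norm_num)) this
        have h3' := Nat.div_lt_self (orderOf_pos y) (show 1 < 3 by norm_num)
        omega
      refine h3 x (pow_mem hyQ _) hx3 hxne t₀ ht₀ ?_
      rw [hx, ← conj_pow, hyt, inv_pow]
    -- the splitting of `N`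
    have hneg : ∀ a : M, -a = a := fun a => neg_eq_of_add_eq_zero_left (hM a)
    have hyN : ∀ n : ℕ, ∀ m ∈ N, ρ (y ^ n) m ∈ N := fun n m hm => hQNN _ (pow_mem hyQ n) m hm
    let f : N →+ M :=
      { toFun := fun m => ρ y m + m
        map_zero' := by simp
        map_add' := fun a b => by push_cast; rw [map_add]; abel }
    set W := f.range with hW
    have hWN : W ≤ N := by
      rintro _ ⟨m, rfl⟩
      exact add_mem (hQNN y hyQ m m.2) m.2
    let C : AddSubgroup M :=
      { carrier := {m | m ∈ N ∧ ρ y m = m}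
        zero_mem' := ⟨zero_mem N, map_zero _⟩
        add_mem' := fun {a b} ha hb => ⟨add_mem ha.1 hb.1, by rw [map_add, ha.2, hb.2]⟩
        neg_mem' := fun {a} ha => ⟨neg_mem ha.1, by rw [map_neg, ha.2]⟩ }
    set n := orderOf y with hn
    have hnodd : Odd n := hodd y hyQ
    let e : N →+ M :=
      { toFun := fun m => ∑ i ∈ Finset.range n, ρ (y ^ i) m
        map_zero' := by simp
        map_add' := fun a b => by
          push_cast
          rw [← Finset.sum_add_distrib]
          exact Finset.sum_congr rfl fun i _ => map_add _ _ _ }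
    have heC : ∀ m : N, e m ∈ C := by
      intro m
      refine ⟨show (∑ i ∈ Finset.range n, ρ (y ^ i) (m : M)) ∈ N from
        AddSubgroup.sum_mem _ fun i _ => hyN i m m.2, ?_⟩
      show ρ y (∑ i ∈ Finset.range n, ρ (y ^ i) (m : M)) = ∑ i ∈ Finset.range n, ρ (y ^ i) (m : M)
      rw [map_sum]
      have hshift : ∀ i, ρ y (ρ (y ^ i) (m : M)) = ρ (y ^ (i + 1)) (m : M) := fun i => by
        rw [← rho_mul_apply, ← pow_succ']
      simp only [hshift]
      have h1 := Finset.sum_range_succ (fun i => ρ (y ^ i) (m : M)) n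
      rw [Finset.sum_range_succ' (fun i => ρ (y ^ i) (m : M)) n] at h1
      rw [hn, pow_orderOf_eq_one, pow_zero] at h1
      exact add_right_cancel h1
    have hnsmul : ∀ a : M, n • a = a := by
      intro a
      obtain ⟨j, hj⟩ := hnodd
      rw [hj, add_smul, mul_smul, one_smul, two_nsmul, hM, zero_add]
    have hWC : ∀ w ∈ W, w ∈ C → w = 0 := by
      rintro _ ⟨m, rfl⟩ hc
      have h1 : e ⟨f m, hWN ⟨m, rfl⟩⟩ = f m := by
        show ∑ i ∈ Finset.range n, ρ (y ^ i) (f m) = f m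
        have hfixp : ∀ i : ℕ, ρ (y ^ i) (f m) = f m := by
          intro i
          induction i with
          | zero => rw [pow_zero, rho_one_apply]
          | succ i ih => rw [pow_succ, rho_mul_apply, hc.2, ih]
        rw [Finset.sum_congr rfl (g := fun _ => f m) (fun i _ => hfixp i), Finset.sum_const,
          Finset.card_range, hnsmul]
      have h2 : e ⟨f m, hWN ⟨m, rfl⟩⟩ = 0 := by
        show ∑ i ∈ Finset.range n, ρ (y ^ i) (ρ y m + m) = 0
        have h4 : ρ y (e m) + e m = 0 := by rw [(heC m).2, hM]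
        rw [← h4]
        show _ = ρ y (∑ i ∈ Finset.range n, ρ (y ^ i) (m : M)) +
          ∑ i ∈ Finset.range n, ρ (y ^ i) (m : M)
        rw [map_sum, ← Finset.sum_add_distrib]
        refine Finset.sum_congr rfl fun i _ => ?_
        rw [map_add, ← rho_mul_apply, ← pow_succ, pow_succ', rho_mul_apply]
      rw [← h1, h2]
    have hdecomp : ∀ m : N, ∃ w ∈ W, (m : M) = w + e m := by
      intro m
      refine ⟨∑ i ∈ Finset.range n, (ρ (y ^ i) m + m), ?_, ?_⟩
      · refine AddSubgroup.sum_mem _ fun i hi => ?_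
        clear hi
        induction i with
        | zero =>
          rw [pow_zero, rho_one_apply, hM]; exact zero_mem _
        | succ i ih =>
          have h4 : ρ (y ^ (i + 1)) (m : M) + m =
              f ⟨ρ (y ^ i) m, hyN i m m.2⟩ + (ρ (y ^ i) (m : M) + m) := by
            show _ = (ρ y (ρ (y ^ i) (m : M)) + ρ (y ^ i) (m : M)) + (ρ (y ^ i) (m : M) + m)
            rw [← rho_mul_apply, ← pow_succ']
            rw [add_assoc, ← add_assoc (ρ (y ^ i) (m : M)), hM, zero_add]
          rw [h4]; exact add_mem ⟨_, rfl⟩ ih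
      · show (m : M) = (∑ i ∈ Finset.range n, (ρ (y ^ i) m + m)) +
          ∑ i ∈ Finset.range n, ρ (y ^ i) (m : M)
        rw [Finset.sum_add_distrib, Finset.sum_const, Finset.card_range, hnsmul]
        rw [add_comm _ (m : M), add_assoc, hM, add_zero]
    -- actions on the pieces
    have hQW : ∀ d ∈ Q, ∀ w ∈ W, ρ d w ∈ W := by
      rintro d hd _ ⟨m, rfl⟩
      refine ⟨⟨ρ d m, hQNN d hd m m.2⟩, ?_⟩
      show ρ y (ρ d m) + ρ d m = ρ d (ρ y m + m)
      rw [map_add, ← rho_mul_apply, ← rho_mul_apply, (hQc y hyQ d hd).eq]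
    have hQC : ∀ d ∈ Q, ∀ c ∈ C, ρ d c ∈ C := by
      intro d hd c hc
      refine ⟨hQNN d hd c hc.1, ?_⟩
      rw [← rho_mul_apply, (hQc y hyQ d hd).eq, rho_mul_apply, hc.2]
    have hTW : ∀ s ∈ T, ∀ w ∈ W, ρ s w ∈ W := by
      rintro s hs _ ⟨m, rfl⟩
      rcases hysplit s hs with h | h
      · refine ⟨⟨ρ s m, hTNN s hs m m.2⟩, ?_⟩
        show ρ y (ρ s m) + ρ s m = ρ s (ρ y m + m)
        have hc : s * y = y * s := mul_inv_eq_iff_eq_mul.1 h
        rw [map_add, ← rho_mul_apply, ← rho_mul_apply, hc]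
      · have hc : s * y = y⁻¹ * s := mul_inv_eq_iff_eq_mul.1 h
        have hmem : ρ y⁻¹ (ρ s m) ∈ N := hQNN _ (inv_mem hyQ) _ (hTNN s hs m m.2)
        refine ⟨⟨ρ y⁻¹ (ρ s m), hmem⟩, ?_⟩
        show ρ y (ρ y⁻¹ (ρ s m)) + ρ y⁻¹ (ρ s m) = ρ s (ρ y m + m)
        rw [map_add, ← rho_mul_apply ρ y, mul_inv_cancel, rho_one_apply, ← rho_mul_apply,
          ← rho_mul_apply, hc, add_comm]
    have hTC : ∀ s ∈ T, ∀ c ∈ C, ρ s c ∈ C := by
      intro s hs c hc
      refine ⟨hTNN s hs c hc.1, ?_⟩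
      have hci : ρ y⁻¹ c = c := by
        nth_rw 1 [← hc.2]; rw [rho_inv_apply]
      rcases hysplit s hs with h | h
      · have h' : y * s = s * y := (mul_inv_eq_iff_eq_mul.1 h).symm
        rw [← rho_mul_apply, h', rho_mul_apply, hc.2]
      · have h' : y * s = s * y⁻¹ := by
          have h1 : s * y = y⁻¹ * s := mul_inv_eq_iff_eq_mul.1 h
          calc y * s = y * (s * y) * y⁻¹ := by group
            _ = s * y⁻¹ := by rw [h1]; group
        rw [← rho_mul_apply, h', rho_mul_apply, hci]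
    -- the centralizer of `y` in `T`
    let B : Subgroup Y :=
      { carrier := {s | s ∈ T ∧ s * y * s⁻¹ = y}
        one_mem' := ⟨one_mem _, by simp⟩
        mul_mem' := fun {a b} ha hb => ⟨mul_mem ha.1 hb.1, by
          calc a * b * y * (a * b)⁻¹ = a * (b * y * b⁻¹) * a⁻¹ := by group
            _ = y := by rw [hb.2, ha.2]⟩
        inv_mem' := fun {a} ha => ⟨inv_mem ha.1, by
          nth_rw 1 [← ha.2]; group⟩ }
    have hBT : B ≤ T := fun s hs => hs.1
    have hy2 : y⁻¹ ≠ y := by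
      intro h
      have hyy : y * y = 1 := by nth_rw 1 [← h]; exact inv_mul_cancel y
      exact hyK (eq_one_of_sq_eq_one_of_odd hyy (hodd y hyQ) ▸ one_mem Ker)
    have ht₀B : t₀ ∉ B := fun h => hy2 (hyt.symm.trans h.2)
    have hTB : Nat.card T ≤ 2 * Nat.card B := by
      classical
      have hmem : ∀ s ∈ T, s ∉ B → s * t₀ ∈ B := by
        intro s hs hsB
        refine ⟨mul_mem hs ht₀, ?_⟩
        have hsy : s * y * s⁻¹ = y⁻¹ := (hysplit s hs).resolve_left fun h => hsB ⟨hs, h⟩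
        calc s * t₀ * y * (s * t₀)⁻¹ = s * (t₀ * y * t₀⁻¹) * s⁻¹ := by group
          _ = (s * y * s⁻¹)⁻¹ := by rw [hyt]; group
          _ = y := by rw [hsy, inv_inv]
      let g : T → Bool × B := fun s =>
        if h : (s : Y) ∈ B then (true, ⟨s, h⟩) else (false, ⟨s * t₀, hmem s s.2 h⟩)
      have hg : Function.Injective g := by
        intro a b hab
        simp only [g] at hab
        split_ifs at hab with ha hb hb
        · exact Subtype.ext (congrArg Subtype.val (Prod.ext_iff.1 hab).2 :)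
        · exact absurd (Prod.ext_iff.1 hab).1 (by simp)
        · exact absurd (Prod.ext_iff.1 hab).1 (by simp)
        · exact Subtype.ext (mul_right_cancel (congrArg Subtype.val (Prod.ext_iff.1 hab).2 :))
      have := Nat.card_le_card_of_injective g hg
      simpa [Nat.card_prod] using this
    have hBlt : Nat.card B ≤ k := by
      have hne : B ≠ T := fun h => ht₀B (h ▸ ht₀)
      have hlt : B < T := lt_of_le_of_ne hBT hne
      have h1 : Nat.card B < Nat.card T :=
        Nat.lt_of_le_of_ne (Subgroup.card_le_of_le hBT)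
          fun h => hlt.ne (Subgroup.eq_of_le_of_card_ge hBT h.ge)
      omega
    -- `B` is trivial on `W`
    have hBW : ∀ b ∈ B, ∀ w ∈ W, ρ b w = w := by
      intro b hb w hw
      have hcomm : y * b = b * y := (mul_inv_eq_iff_eq_mul.1 hb.2).symm
      have hfix : ∀ w' : M, ρ t₀ (ρ b w' + w') = ρ b w' + w' := by
        intro w'
        rw [map_add]
        have h4 := hquad t₀ ht₀ b hb.1 w'
        rw [add_assoc (ρ t₀ (ρ b w') + ρ t₀ w'), add_eq_zero_iff_eq_neg, hneg] at h4
        exact h4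
      set u := ρ b w + w with hu
      have hyu : ρ y u = ρ b (ρ y w) + ρ y w := by
        rw [hu, map_add, ← rho_mul_apply, ← rho_mul_apply, hcomm]
      have h5 : ρ y⁻¹ u = ρ y u := by
        have h6 : ρ t₀ (ρ y u) = ρ y u := by rw [hyu]; exact hfix (ρ y w)
        rw [← rho_mul_apply, show t₀ * y = y⁻¹ * t₀ from mul_inv_eq_iff_eq_mul.1 hyt, rho_mul_apply,
          hu, hfix w, ← hu] at h6
        exact h6
      have h2 : ρ (y * y) u = u := by
        rw [rho_mul_apply, ← h5, ← rho_mul_apply, mul_inv_cancel, rho_one_apply]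
      have hfy : ρ y u = u := by
        obtain ⟨j, hj⟩ := hnodd
        have h7 : ∀ i : ℕ, ρ ((y * y) ^ i) u = u := by
          intro i
          induction i with
          | zero => rw [pow_zero, rho_one_apply]
          | succ i ih => rw [pow_succ, rho_mul_apply, h2, ih]
        have h8 : (y * y) ^ (j + 1) = y := by
          rw [← pow_two, ← pow_mul, show 2 * (j + 1) = n + 1 by omega, pow_succ, hn,
            pow_orderOf_eq_one, one_mul]
        rw [← h8]; exact h7 _
      have huW : u ∈ W := add_mem (hTW b hb.1 w hw) hw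
      have := hWC u huW ⟨hWN huW, hfy⟩
      rwa [hu, add_eq_zero_iff_eq_neg, hneg] at this
    -- induction
    have hsub := (ih B hBlt (fun t ht => hTN t ht.1) (fun t ht => hT2 t ht.1)
      (fun s hs t ht => hTc s hs.1 t ht.1) (fun s hs t ht => hquad s hs.1 t ht.1)
      (fun x hx hx3 hx1 t ht => h3 x hx hx3 hx1 t ht.1) C (fun t ht => hTC t ht.1) hQC
      (fun b hb hbC => by
        refine hfaith b hb.1 fun d hd m hm => ?_
        obtain ⟨w, hw, hwm⟩ := hdecomp ⟨m, hm⟩
        have hm' : m = w + e ⟨m, hm⟩ := hwm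
        rw [hm', map_add, hbC d hd _ (heC _)]
        congr 1
        rw [show d * b * d⁻¹ * b⁻¹ = d * (b * (d⁻¹ * b⁻¹)) by group, rho_mul_apply, rho_mul_apply,
          rho_mul_apply, hBW b⁻¹ (inv_mem hb) w hw,
          hBW b hb _ (hQW _ (inv_mem hd) w hw), ← rho_mul_apply, mul_inv_cancel, rho_one_apply])).1
    -- counting
    let FW : AddSubgroup M :=
      { carrier := {w | w ∈ W ∧ ρ t₀ w = w}
        zero_mem' := ⟨zero_mem _, map_zero _⟩
        add_mem' := fun {a b} ha hb => ⟨add_mem ha.1 hb.1, by rw [map_add, ha.2, hb.2]⟩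
        neg_mem' := fun {a} ha => ⟨neg_mem ha.1, by rw [map_neg, ha.2]⟩ }
    have hFW : Nat.card FW * Nat.card FW ≤ Nat.card W := by
      rw [← Nat.card_prod]
      refine Nat.card_le_card_of_injective (fun x : FW × FW =>
        (⟨(x.1 : M) + ρ y (x.2 : M), add_mem x.1.2.1 (hQW y hyQ _ x.2.2.1)⟩ : W)) ?_
      rintro ⟨⟨a, ha⟩, ⟨b, hb⟩⟩ ⟨⟨a', ha'⟩, ⟨b', hb'⟩⟩ h
      have h' : a + ρ y b = a' + ρ y b' := congrArg Subtype.val h
      have hd : ρ y (b + b') = a + a' := by
        rw [map_add]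
        have := congrArg (fun z => z + (a + ρ y b')) h'
        rw [show a + ρ y b + (a + ρ y b') = (a + a) + (ρ y b + ρ y b') by abel,
          show a' + ρ y b' + (a + ρ y b') = (a + a') + (ρ y b' + ρ y b') by abel,
          hM, hM, zero_add, add_zero] at this
        exact this
      have hfix : ρ t₀ (ρ y (b + b')) = ρ y (b + b') := by rw [hd, map_add, ha.2, ha'.2]
      rw [← rho_mul_apply, show t₀ * y = y⁻¹ * t₀ from mul_inv_eq_iff_eq_mul.1 hyt, rho_mul_apply,
        map_add (ρ t₀), hb.2, hb'.2] at hfix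
      have h2 : ρ (y * y) (b + b') = b + b' := by
        rw [rho_mul_apply, ← hfix, ← rho_mul_apply, mul_inv_cancel, rho_one_apply]
      have hb2 : ρ y (b + b') = b + b' := by
        obtain ⟨j, hj⟩ := hnodd
        have h7 : ∀ i : ℕ, ρ ((y * y) ^ i) (b + b') = b + b' := by
          intro i
          induction i with
          | zero => rw [pow_zero, rho_one_apply]
          | succ i ih => rw [pow_succ, rho_mul_apply, h2, ih]
        have h8 : (y * y) ^ (j + 1) = y := by
          rw [← pow_two, ← pow_mul, show 2 * (j + 1) = n + 1 by omega, pow_succ, hn,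
            pow_orderOf_eq_one, one_mul]
        rw [← h8]; exact h7 _
      have hbb : b + b' = 0 :=
        hWC _ (add_mem hb.1 hb'.1) ⟨hWN (add_mem hb.1 hb'.1), hb2⟩
      have haa : a + a' = 0 := by rw [← hd, hbb, map_zero]
      rw [add_eq_zero_iff_eq_neg, hneg] at hbb haa
      subst hbb; subst haa; rfl
    have hW4 : 4 * Nat.card FW ≤ Nat.card W := by
      by_contra hcon
      have hFpos : 0 < Nat.card FW := Nat.card_pos
      have hF3 : Nat.card FW ≤ 3 := by
        by_contra h4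
        nlinarith [hFW]
      -- subgroups of a group of exponent two have order a power of two
      have hpow : ∀ S : AddSubgroup M, ∃ j, Nat.card S = 2 ^ j := by
        intro S
        haveI : Fact (Nat.Prime 2) := ⟨Nat.prime_two⟩
        have hP : IsPGroup 2 (Multiplicative S) := fun a => ⟨1, by
          apply Multiplicative.toAdd.injective
          show (2 ^ 1) • (Multiplicative.toAdd a) = 0
          rw [pow_one, two_nsmul]
          exact Subtype.ext (hM _)⟩
        obtain ⟨j, hj⟩ := IsPGroup.iff_card.1 hP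
        exact ⟨j, by rw [← hj]; exact Nat.card_congr Multiplicative.ofAdd⟩
      obtain ⟨i, hi⟩ := hpow W
      obtain ⟨j, hj⟩ := hpow FW
      have hi4 : Nat.card W ≤ 4 := by
        have hj1 : j ≤ 1 := by
          by_contra h2
          have : 2 ^ 2 ≤ 2 ^ j := Nat.pow_le_pow_right (by norm_num) (by omega)
          omega
        have : 2 ^ i < 2 ^ 3 := by
          interval_cases j <;> omega
        have : i < 3 := (Nat.pow_lt_pow_iff_right (by norm_num)).1 this
        interval_cases i <;> omega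
      -- `⟨y⟩` is fixed-point-free on `W` of order at most 4, so `y ^ 3` is trivial on `N`
      apply hy3
      have hy3W : ∀ w ∈ W, ρ (y ^ 3) w = w := by
        intro w hw
        rcases eq_or_ne w 0 with rfl | hw0
        · exact map_zero _
        classical
        haveI := Fintype.ofFinite W
        have hne : ∀ v ∈ W, v ≠ 0 → ρ y v ≠ v := fun v hv hv0 h => hv0 (hWC v hv ⟨hWN hv, h⟩)
        have hinj : ∀ v v', ρ y v = ρ y v' → v = v' := fun v v' h => by
          rw [← rho_inv_apply ρ y v, h, rho_inv_apply]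
        set w1 := ρ y w with hw1
        set w2 := ρ y w1 with hw2
        set w3 := ρ y w2 with hw3
        have h1W : w1 ∈ W := hQW y hyQ w hw
        have h2W : w2 ∈ W := hQW y hyQ _ h1W
        have h3W : w3 ∈ W := hQW y hyQ _ h2W
        have h10 : w1 ≠ 0 := fun h => hw0 (hinj w 0 (by rw [← hw1, h, map_zero]))
        have h20 : w2 ≠ 0 := fun h => h10 (hinj w1 0 (by rw [← hw2, h, map_zero]))
        have h30 : w3 ≠ 0 := fun h => h20 (hinj w2 0 (by rw [← hw3, h, map_zero]))
        have e01 : w1 ≠ w := hne w hw hw0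
        have e12 : w2 ≠ w1 := hne w1 h1W h10
        have e23 : w3 ≠ w2 := hne w2 h2W h20
        have e02 : w2 ≠ w := by
          intro h
          have h7 : ∀ i : ℕ, ρ ((y * y) ^ i) w = w := by
            intro i
            induction i with
            | zero => rw [pow_zero, rho_one_apply]
            | succ i ih => rw [pow_succ, rho_mul_apply, rho_mul_apply, ← hw1, ← hw2, h, ih]
          obtain ⟨j, hj⟩ := hnodd
          have h8 : (y * y) ^ (j + 1) = y := by
            rw [← pow_two, ← pow_mul, show 2 * (j + 1) = n + 1 by omega, pow_succ, hn,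
              pow_orderOf_eq_one, one_mul]
          exact e01 (by rw [hw1, ← h8]; exact h7 _)
        have e13 : w3 ≠ w1 := fun h => e02 (hinj _ _ (by rw [← hw3, ← hw1, h]))
        show ρ (y ^ 3) w = w
        rw [show (3 : ℕ) = 1 + 1 + 1 from rfl, pow_add, pow_add, pow_one, rho_mul_apply,
          rho_mul_apply, ← hw1, ← hw2, ← hw3]
        by_contra e03
        have hcard : ({⟨0, zero_mem _⟩, ⟨w, hw⟩, ⟨w1, h1W⟩, ⟨w2, h2W⟩, ⟨w3, h3W⟩} :
            Finset W).card = 5 := by
          simp [Subtype.ext_iff, Ne.symm hw0,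
            Ne.symm h10, Ne.symm h20, Ne.symm h30, Ne.symm e01, Ne.symm e12, Ne.symm e23,
            Ne.symm e02, Ne.symm e13, Ne.symm e03]
        have := Finset.card_le_univ ({⟨0, zero_mem _⟩, ⟨w, hw⟩, ⟨w1, h1W⟩, ⟨w2, h2W⟩, ⟨w3, h3W⟩} :
            Finset W)
        rw [hcard, ← Nat.card_eq_fintype_card] at this
        omega
      intro m hm
      obtain ⟨w, hw, hwm⟩ := hdecomp ⟨m, hm⟩
      have hm' : m = w + e ⟨m, hm⟩ := hwm
      rw [hm', map_add, hy3W w hw]
      congr 1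
      rw [show (3 : ℕ) = 1 + 1 + 1 from rfl, pow_add, pow_add, pow_one, rho_mul_apply, rho_mul_apply,
        (heC _).2, (heC _).2, (heC _).2]
    have hsplit : ∀ x : fixIn ρ N T, ∃ p : FW × fixIn ρ C B, (x : M) = (p.1 : M) + p.2 := by
      intro x
      obtain ⟨hxN, hxT⟩ := x.2
      obtain ⟨w, hw, hwx⟩ := hdecomp ⟨x, hxN⟩
      have hwx' : (x : M) = w + e ⟨x, hxN⟩ := hwx
      have hfix : ∀ s ∈ T, ρ s w = w ∧ ρ s (e ⟨x, hxN⟩) = e ⟨x, hxN⟩ := by
        intro s hs
        have h9 := hxT s hs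
        rw [hwx', map_add] at h9
        have h10 : ρ s w + w = ρ s (e ⟨x, hxN⟩) + e ⟨x, hxN⟩ := by
          have := congrArg (fun z => z + (w + ρ s (e ⟨x, hxN⟩))) h9
          rw [show ρ s w + ρ s (e ⟨x, hxN⟩) + (w + ρ s (e ⟨x, hxN⟩)) =
              (ρ s w + w) + (ρ s (e ⟨x, hxN⟩) + ρ s (e ⟨x, hxN⟩)) by abel,
            show w + e ⟨x, hxN⟩ + (w + ρ s (e ⟨x, hxN⟩)) =
              (w + w) + (ρ s (e ⟨x, hxN⟩) + e ⟨x, hxN⟩) by abel, hM, hM, zero_add, add_zero] at this
          exact this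
        have h0 : ρ s w + w = 0 :=
          hWC _ (add_mem (hTW s hs w hw) hw) (h10 ▸ add_mem (hTC s hs _ (heC _)) (heC _))
        refine ⟨by rwa [add_eq_zero_iff_eq_neg, hneg] at h0, ?_⟩
        rw [h0] at h10
        have h11 := h10.symm
        rwa [add_eq_zero_iff_eq_neg, hneg] at h11
      exact ⟨(⟨w, hw, (hfix t₀ ht₀).1⟩, ⟨_, heC _, fun b hb => (hfix b hb.1).2⟩), hwx'⟩
    have hfixle : Nat.card (fixIn ρ N T) ≤ Nat.card FW * Nat.card (fixIn ρ C B) := by
      rw [← Nat.card_prod]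
      choose g hg using hsplit
      exact Nat.card_le_card_of_injective g fun a b h => Subtype.ext (by rw [hg a, hg b, h])
    have hNcard : Nat.card W * Nat.card C ≤ Nat.card N := by
      rw [← Nat.card_prod]
      refine Nat.card_le_card_of_injective
        (fun x : W × C => (⟨(x.1 : M) + x.2, add_mem (hWN x.1.2) x.2.2.1⟩ : N)) ?_
      rintro ⟨⟨a, ha⟩, ⟨c, hc⟩⟩ ⟨⟨a', ha'⟩, ⟨c', hc'⟩⟩ h
      have h' : a + c = a' + c' := congrArg Subtype.val h
      have hd : a + a' = c + c' := by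
        have := congrArg (fun z => z + (a' + c)) h'
        rw [show a + c + (a' + c) = (a + a') + (c + c) by abel,
          show a' + c' + (a' + c) = (a' + a') + (c + c') by abel, hM, hM, zero_add, add_zero] at this
        exact this
      have h0 : a + a' = 0 := hWC _ (add_mem ha ha') (hd ▸ add_mem hc hc')
      have hc0 : c + c' = 0 := hd ▸ h0
      rw [add_eq_zero_iff_eq_neg, hneg] at h0 hc0
      subst h0; subst hc0; rfl
    have hpos : 0 < Nat.card N := Nat.card_pos
    have h12 : Nat.card T * Nat.card (fixIn ρ N T) ≤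
        (2 * Nat.card B) * (Nat.card FW * Nat.card (fixIn ρ C B)) := Nat.mul_le_mul hTB hfixle
    have h13 : (4 * Nat.card FW) * (Nat.card B * Nat.card (fixIn ρ C B)) ≤
        Nat.card W * Nat.card C := Nat.mul_le_mul hW4 hsub
    nlinarith

/-- A quadratic 2-group of operators, faithful on an abelian group of odd order, is no offender
unless it inverts an element of order 3. -/
theorem offender_two (hM : ∀ m : M, m + m = 0) (Q : Subgroup Y)
    (hQc : ∀ a ∈ Q, ∀ b ∈ Q, Commute a b) (hodd : ∀ d ∈ Q, Odd (orderOf d))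
    (hQfaith : ∀ d ∈ Q, ρ d = 1 → d = 1) (T : Subgroup Y)
    (hTN : ∀ t ∈ T, ∀ d ∈ Q, t * d * t⁻¹ ∈ Q) (hT2 : ∀ t ∈ T, t * t = 1)
    (hTc : ∀ s ∈ T, ∀ t ∈ T, Commute s t)
    (hquad : ∀ s ∈ T, ∀ t ∈ T, ∀ m : M, ρ s (ρ t m) + ρ s m + ρ t m + m = 0)
    (hTQ : ∀ t ∈ T, (∀ d ∈ Q, Commute t d) → t = 1)
    (h3 : ∀ x ∈ Q, x ^ 3 = 1 → x ≠ 1 → ∀ t ∈ T, t * x * t⁻¹ ≠ x⁻¹) (hTne : T ≠ ⊥) :
    Nat.card T * Nat.card (H23.fixedAdd ρ T) < Nat.card M := by
  have h := (offender_two_aux ρ hM Q hQc hodd _ T le_rfl hTN hT2 hTc hquad h3 ⊤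
    (fun _ _ _ _ => trivial) (fun _ _ _ _ => trivial) (fun t ht htd => hTQ t ht fun d hd => by
      have hmem : d * t * d⁻¹ * t⁻¹ ∈ Q := by
        rw [show d * t * d⁻¹ * t⁻¹ = d * (t * d⁻¹ * t⁻¹) by group]
        exact mul_mem hd (hTN t ht _ (inv_mem hd))
      have h1 := hQfaith _ hmem (AddMonoidHom.ext fun m => htd d hd m trivial)
      calc t * d = (d * t * d⁻¹ * t⁻¹)⁻¹ * (d * t) := by group
        _ = d * t := by rw [h1]; simp)).2 hTne
  have h2 : Nat.card (fixIn ρ ⊤ T) = Nat.card (H23.fixedAdd ρ T) := by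
    rw [fixIn, top_inf_eq]
  rw [h2] at h
  exact h.trans_eq (Nat.card_congr AddSubgroup.topEquiv.toEquiv)

end Cfsg.Agent.H72
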