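import Cfsg.Agent.H23.ThompsonNPC
import Cfsg.Agent.H23.Quadratic
import Cfsg.Agent.H34.Conj
import Cfsg.Agent.H20.PxQ
import Cfsg.Agent.H83.Involves
import Cfsg.Agent.H72.ThompsonA
import Cfsg.Agent.H72.OffenderTwo

/-!
The final contradiction in the Thompson normal `p`-complement theorem for the abelian `J(P)`:
abelian subgroups of largest order lie in `U = O_p(G)`.
-/

set_option autoImplicit false

namespace Cfsg.Agent.H72

open Subgroup
open scoped commutatorElement IsMulCommutative Pointwise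

universe u

variable {G : Type u} [Group G] [Finite G] {p : ℕ} [hp : Fact p.Prime]

/-- For an abelian subgroup of largest order the offender number does not grow on subgroups. -/
theorem IsMaxAb.offNum_le {P A V : Subgroup G} (hA : IsMaxAb P A) (hVP : V ≤ P)
    (hVc : ∀ v ∈ V, ∀ w ∈ V, Commute v w) (B : Subgroup G) (hB : B ≤ A) :
    H34.offNum V B ≤ H34.offNum V A := by
  set C := V ⊓ centralizer (B : Set G) with hC
  have hBc : ∀ a ∈ B, ∀ b ∈ B, Commute a b := fun a ha b hb => hA.2.1 a (hB ha) b (hB hb)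
  have hBC : ∀ a ∈ B, ∀ c ∈ C, Commute a c := fun a ha c hc => mem_centralizer_iff.1 hc.2 a ha
  have hle : B ⊔ C ≤ centralizer ((B ⊔ C : Subgroup G) : Set G) := by
    rw [le_centralizer_iff_isMulCommutative]
    refine ⟨⟨fun x y => ?_⟩⟩
    have hBC' : B ≤ normalizer (C : Set G) := fun a ha => centralizer_le_normalizer _
      (mem_centralizer_iff.2 fun c hc => (hBC a ha c hc).eq.symm)
    obtain ⟨a, ha, c, hc, hx⟩ : (x : G) ∈ ((B : Set G) * (C : Set G)) := by
      rw [← coe_mul_of_left_le_normalizer_right _ _ hBC']; exact x.2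
    obtain ⟨b, hb, d, hd, hy⟩ : (y : G) ∈ ((B : Set G) * (C : Set G)) := by
      rw [← coe_mul_of_left_le_normalizer_right _ _ hBC']; exact y.2
    apply Subtype.ext
    simp only [MulMemClass.coe_mul, ← hx, ← hy]
    exact ((hBc a ha b hb).mul_right (hBC a ha d hd)).mul_left
      ((hBC b hb c hc).symm.mul_right (hVc c hc.1 d hd.1))
  have hmax : Nat.card ↥(B ⊔ C) ≤ Nat.card A :=
    hA.2.2 _ (sup_le (hB.trans hA.1) (inf_le_left.trans hVP))
      fun a ha b hb => (mem_centralizer_iff.1 (hle hb) a ha)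
  refine (H34.card_mul_card_le B C).trans (Nat.mul_le_mul hmax (card_le_of_le ?_))
  exact fun x hx => ⟨hx.2.1, mem_centralizer_iff.2 fun a ha => hA.2.1 a ha x (hB hx.1)⟩

/-- An abelian subgroup of largest order of `P` lies in `U` when `G ⧸ U` is an abelian `p'`-group
`Q` extended by a `p`-group and acts faithfully on `V`, unless `p = 2` and some element of
order 3 is inverted. -/
theorem isMaxAb_le_of_faithful (h3 : p = 2 → ¬ Involves (Equiv.Perm (Fin 3)) G)
    (P U V : Subgroup G) [U.Normal] [V.Normal] (hPp : IsPGroup p P)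
    (hUP : U ≤ P) (hVU : V ≤ U) (hUV : ∀ u ∈ U, ∀ v ∈ V, Commute u v)
    (hVp : ∀ v ∈ V, v ^ p = 1) (Q : Subgroup (G ⧸ U)) [Q.Normal] [IsMulCommutative Q]
    (hQp : ¬ p ∣ Nat.card Q)
    (hfaith : ∀ g : G, (∀ v ∈ V, Commute g v) → g ∈ U)
    (hTQ : ∀ x ∈ P.map (QuotientGroup.mk' U), (∀ d ∈ Q, Commute x d) → x = 1)
    {A : Subgroup G} (hA : IsMaxAb P A) : A ≤ U := by
  by_contra hAU
  have hVc : IsMulCommutative V :=
    ⟨⟨fun x y => Subtype.ext (hUV x (hVU x.2) y y.2).eq⟩⟩
  have hVc' : ∀ v ∈ V, ∀ w ∈ V, Commute v w := fun v hv w hw => hUV v (hVU hv) w hw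
  have hAV : A ≤ normalizer (V : Set G) := le_top.trans_eq (normalizer_eq_top_iff.2 ‹V.Normal›).symm
  have hab : ⁅A, A⁆ ≤ centralizer (V : Set G) := by
    rw [commutator_eq_bot_iff_le_centralizer.2 fun a ha =>
      mem_centralizer_iff.2 fun b hb => hA.2.1 b hb a ha]
    exact bot_le
  obtain ⟨hoff, hfix⟩ := H34.replacement hAV hab (hA.offNum_le (hVU.trans hUP) hVc') (le_refl V)
  set X := ⁅V, A⁆ with hX
  set B := A ⊓ centralizer (X : Set G) with hB
  have hXV : X ≤ V := le_normalizer_iff_commutator_le_left.1 hAV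
  -- `B` is not contained in `U`
  have hBU : ¬ B ≤ U := by
    intro hBU
    have hV : V = X ⊔ (V ⊓ centralizer (A : Set G)) := by
      rw [← hfix]
      exact le_antisymm (le_inf le_rfl fun v hv => mem_centralizer_iff.2 fun b hb =>
        (hUV b (hBU hb) v hv).eq) inf_le_left
    have hle : X ≤ ⁅X, A⁆ := by
      nth_rw 1 [hX]
      refine commutator_le.2 fun v hv a ha => ?_
      have hn : X ≤ normalizer ((V ⊓ centralizer (A : Set G) : Subgroup G) : Set G) :=
        fun x hx => centralizer_le_normalizer _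
          (mem_centralizer_iff.2 fun c hc => (hVc' c hc.1 x (hXV hx)).eq)
      obtain ⟨x, hx, c, hc, rfl⟩ : v ∈ ((X : Set G) * ((V ⊓ centralizer (A : Set G) :
          Subgroup G) : Set G)) := by
        rw [← coe_mul_of_left_le_normalizer_right _ _ hn, SetLike.mem_coe, ← hV]; exact hv
      have hca : Commute c a := (mem_centralizer_iff.1 hc.2 a ha).symm
      have e : ⁅x * c, a⁆ = ⁅x, a⁆ := by
        calc ⁅x * c, a⁆ = x * (c * a) * c⁻¹ * x⁻¹ * a⁻¹ := by
              simp only [commutatorElement_def]; group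
          _ = x * (a * c) * c⁻¹ * x⁻¹ * a⁻¹ := by rw [hca.eq]
          _ = ⁅x, a⁆ := by simp only [commutatorElement_def]; group
      rw [e]; exact commutator_mem_commutator hx ha
    have hXbot : X = ⊥ := by
      by_contra hne
      exact (H20.commutator_lt_of_isPGroup (hPp.to_le (hXV.trans (hVU.trans hUP)))
        (hPp.to_le hA.1) (by rw [hX]; exact normalizer_commutator_ge_right V A) hne).not_ge hle
    refine hAU fun a ha => hfaith a fun v hv => ?_
    have := commutator_eq_bot_iff_le_centralizer.1 hXbot hv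
    exact mem_centralizer_iff.1 this a ha
  set φ := QuotientGroup.mk' U with hφ
  set T := B.map φ with hT
  set ρ := H23.quotientConjEnd U V hUV with hρ
  have hM : ∀ v : Additive V, p • v = 0 := fun v =>
    Additive.toMul.injective (Subtype.ext (hVp _ (Additive.toMul v).2))
  have hρinj : ∀ y, ρ y = 1 → y = 1 := by
    intro y h1
    obtain ⟨g, rfl⟩ := QuotientGroup.mk'_surjective U y
    refine (QuotientGroup.eq_one_iff g).2 (hfaith g fun v hv => ?_)
    have h2 : H23.quotientConjEnd U V hUV (g : G ⧸ U) = 1 := h1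
    exact (H23.quotientConjEnd_fix_iff U V hUV g ⟨v, hv⟩).1 (by rw [h2]; rfl)
  have hTP : T ≤ P.map φ := map_mono (inf_le_left.trans hA.1)
  -- quadratic action
  have hquad : ∀ s ∈ T, ∀ t ∈ T, ∀ m, ρ s (ρ t m - m) = ρ t m - m := by
    rintro _ ⟨c, hc, rfl⟩ _ ⟨b, hb, rfl⟩ m
    have hw : b * ((Additive.toMul m : V) : G) * b⁻¹ * ((Additive.toMul m : V) : G)⁻¹ ∈ X := by
      rw [hX, commutator_comm]
      exact commutator_mem_commutator hb.1 (Additive.toMul m).2
    have hm : H23.quotientConjEnd U V hUV (b : G ⧸ U) m - m =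
        Additive.ofMul (⟨_, hXV hw⟩ : V) := by
      apply Additive.toMul.injective
      rw [toMul_sub]
      apply Subtype.ext
      rw [div_eq_mul_inv]
      rfl
    change H23.quotientConjEnd U V hUV (c : G ⧸ U) (H23.quotientConjEnd U V hUV (b : G ⧸ U) m - m) =
      H23.quotientConjEnd U V hUV (b : G ⧸ U) m - m
    rw [hm]
    exact (H23.quotientConjEnd_fix_iff U V hUV c _).2 (mem_centralizer_iff.1 hc.2 _ hw).symm
  have hcopQ : ∀ d ∈ Q, (orderOf d).Coprime p := fun d hd =>
    ((hp.out.coprime_iff_not_dvd.2 hQp).coprime_dvd_right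
      (Subgroup.orderOf_dvd_natCard Q hd)).symm
  have hTne : T ≠ ⊥ := by
    intro h
    apply hBU
    intro b hb
    have h1 : φ b ∈ T := mem_map_of_mem φ hb
    rw [h, mem_bot] at h1
    exact (QuotientGroup.eq_one_iff b).1 h1
  rcases eq_or_ne p 2 with hp2 | hp2
  · subst hp2
    have hM2 : ∀ m : Additive V, m + m = 0 := fun m => by rw [← two_nsmul]; exact hM m
    have hneg : ∀ m : Additive V, -m = m := fun m => neg_eq_of_add_eq_zero_left (hM2 m)
    have hsub : ∀ a b : Additive V, a - b = a + b := fun a b => by rw [sub_eq_add_neg, hneg]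
    have hlt := offender_two ρ hM2 Q (fun a ha b hb =>
        congrArg Subtype.val (mul_comm' (⟨a, ha⟩ : Q) ⟨b, hb⟩))
      (fun d hd => Nat.coprime_two_right.1 (hcopQ d hd)) (fun d _ h => hρinj d h) T
      (fun t _ d hd => Subgroup.Normal.conj_mem ‹Q.Normal› d hd t)
      (fun t ht => hρinj _ (AddMonoidHom.ext fun m => by
        have h1 := hquad t ht t ht m
        rw [hsub, map_add, add_comm (ρ t m) m] at h1
        show ρ (t * t) m = m
        rw [map_mul]
        exact add_right_cancel h1))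
      (by
        rintro _ ⟨a, ha, rfl⟩ _ ⟨b, hb, rfl⟩
        exact (hA.2.1 a ha.1 b hb.1).map φ)
      (fun s hs t ht m => by
        have h1 := hquad s hs t ht m
        rw [hsub, map_add] at h1
        rw [h1, add_assoc, hM2])
      (fun t ht hd => hTQ t (hTP ht) hd)
      (fun x hx hx3 hx1 t _ ht => h3 rfl
        (H83.involves_of_quotient (H83.involves_s3_of_inverted hx3 hx1 ht)))
      hTne
    -- the offender inequality
    have hFix : Nat.card ↥(V ⊓ centralizer (B : Set G)) ≤ Nat.card (H23.fixedAdd ρ T) := by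
      refine Nat.card_le_card_of_injective
        (fun x => ⟨Additive.ofMul ⟨x, x.2.1⟩, ?_⟩) fun x y hxy => ?_
      · rintro _ ⟨b, hb, rfl⟩
        exact (H23.quotientConjEnd_fix_iff U V hUV b _).2 (mem_centralizer_iff.1 x.2.2 b hb)
      · exact Subtype.ext (congrArg (fun z => ((Additive.toMul z.1 : V) : G)) hxy :)
    have hAVle : A ⊓ V ≤ V ⊓ centralizer (A : Set G) := fun x hx =>
      ⟨hx.2, mem_centralizer_iff.2 fun a ha => hA.2.1 a ha x hx.1⟩
    have hW : Nat.card ↥((B ⊓ U) ⊔ V) ≤ Nat.card A := by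
      refine hA.2.2 _ (sup_le ((inf_le_left.trans inf_le_left).trans hA.1) (hVU.trans hUP)) ?_
      intro x hx y hy
      obtain ⟨a, ha, v, hv, rfl⟩ := mem_sup_of_normal_right.1 hx
      obtain ⟨b, hb, w, hw, rfl⟩ := mem_sup_of_normal_right.1 hy
      exact ((hA.2.1 a ha.1.1 b hb.1.1).mul_right (hUV a ha.2 w hw)).mul_left
        ((hUV b hb.2 v hv).symm.mul_right (hVc' v hv w hw))
    have h1 : Nat.card B = Nat.card T * Nat.card (B ⊓ U : Subgroup G) :=
      H19.card_eq_card_map_mul U B
    have h2 : Nat.card (B ⊓ U : Subgroup G) * Nat.card V ≤ H34.offNum V A :=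
      (H34.card_mul_card_le (B ⊓ U) V).trans (Nat.mul_le_mul hW (card_le_of_le
        ((inf_le_inf_right V (inf_le_left.trans inf_le_left)).trans hAVle)))
    rw [← hoff, H34.offNum, h1] at h2
    have hpos : 0 < Nat.card (B ⊓ U : Subgroup G) := Nat.card_pos
    have h5 : Nat.card V ≤ Nat.card T * Nat.card ↥(V ⊓ centralizer (B : Set G)) :=
      Nat.le_of_mul_le_mul_left (h2.trans_eq (by ring)) hpos
    have h6 : Nat.card (Additive V) = Nat.card V := (Nat.card_congr Additive.ofMul).symm
    have h7 := h5.trans (Nat.mul_le_mul_left _ hFix)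
    omega
  · apply hTne
    rw [eq_bot_iff]
    intro t ht
    refine mem_bot.2 (hTQ t (hTP ht) fun d hd => ?_)
    have hchar : ((p : ℕ) : AddMonoid.End (Additive V)) = 0 :=
      AddMonoidHom.ext fun m => (AddMonoid.End.natCast_apply p m).trans (hM m)
    have hq : (ρ t - 1) * (ρ t - 1) = 0 := AddMonoidHom.ext fun m => by
      show ρ t (ρ t m - m) - (ρ t m - m) = 0
      rw [hquad t ht t ht m, sub_self]
    have h1 := H23.map_conj_eq_of_quadratic hp2 hchar ρ Q hcopQ t
      (fun x => ⟨fun hx => Subgroup.Normal.conj_mem ‹Q.Normal› x hx _, fun hx => by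
        have := Subgroup.Normal.conj_mem ‹Q.Normal› _ hx t⁻¹
        simpa [mul_assoc] using this⟩) hq hd
    have h2 : t * d * t⁻¹ * d⁻¹ = 1 := hρinj _ (by
      rw [map_mul, h1, ← map_mul, mul_inv_cancel, map_one])
    exact mul_inv_eq_iff_eq_mul.1 (mul_inv_eq_one.1 h2)

end Cfsg.Agent.H72
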