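import Cfsg.Agent.H72.NormArgument
import Cfsg.Agent.H72.ThompsonAFaithful
import Cfsg.Agent.H83.Involves
import Cfsg.Agent.H28.BaerSuzuki

/-!
The steps of the norm argument: largest abelian subgroups on a normal abelian subgroup, and minimal
best offenders in groups without transvections.
-/

set_option autoImplicit false
set_option linter.style.haveILetI false

namespace Cfsg.Agent.H72

open Finset
open scoped commutatorElement Pointwise

section Sum

variable {Y : Type*} [Group Y] {M : Type*} [AddCommGroup M] (ρ : Y →* AddMonoid.End M)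

/-- The sum of `v` over the powers of `a` when `[v, a]` is fixed by `a` and killed by `p`. -/
theorem sum_pow_apply {p : ℕ} (hp : p.Prime) (h2 : p ≠ 2) {a : Y} {v c : M}
    (hc : ρ a v = v + c) (hfix : ρ a c = c) (hpc : p • c = 0) :
    ∑ j ∈ range p, ρ (a ^ j) v = p • v := by
  have hj : ∀ j : ℕ, ρ (a ^ j) v = v + j • c := by
    intro j
    induction j with
    | zero => rw [pow_zero, map_one, zero_smul, add_zero]; rfl
    | succ j ih =>
      rw [pow_succ', map_mul]
      show ρ a (ρ (a ^ j) v) = _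
      rw [ih, map_add, map_nsmul, hc, hfix, succ_nsmul]
      abel
  simp only [hj]
  rw [sum_add_distrib, sum_const, card_range, ← sum_smul]
  obtain ⟨k, hk⟩ := (hp.odd_of_ne_two h2)
  have : ∑ j ∈ range p, j = p * k := by
    have h := Finset.sum_range_id_mul_two p
    rw [show p - 1 = 2 * k by omega] at h
    nlinarith
  rw [this, mul_comm, mul_smul, hpc, smul_zero, add_zero]

/-- The sum of a fixed vector. -/
theorem sum_pow_fixed (p : ℕ) {a : Y} {v : M} (hfix : ρ a v = v) :
    ∑ j ∈ range p, ρ (a ^ j) v = p • v := by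
  have hj : ∀ j : ℕ, ρ (a ^ j) v = v := by
    intro j
    induction j with
    | zero => rw [pow_zero, map_one]; rfl
    | succ j ih =>
      rw [pow_succ', map_mul]
      show ρ a (ρ (a ^ j) v) = _
      rw [ih, hfix]
  simp only [hj, sum_const, card_range]

end Sum

section MaxAb

universe u

variable {H : Type u} [Group H] [Finite H] {p : ℕ} [hp : Fact p.Prime]

/-- A maximal subgroup `B0` of an abelian subgroup `B` of largest order fixes at most `p` times as
much of `W` as `B`, the elements of `B` acting trivially on the difference. -/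
theorem maxAb_step {T W B : Subgroup H} (hT : IsPGroup p T) (hWT : W ≤ T)
    (hTW : T ≤ Subgroup.normalizer (W : Set H))
    (hWc : ∀ v ∈ W, ∀ w ∈ W, Commute v w) (hB : IsMaxAb T B) {B0 : Subgroup H} (hB0 : B0 ≤ B)
    (hidx : B0.relIndex B = p) {v : H} (hv : v ∈ W) (hfix : ∀ b ∈ B0, Commute b v) :
    (∀ b ∈ B, Commute b (v ^ p)) ∧ ∀ a ∈ B, ∀ b ∈ B, Commute b ⁅a, v⁆ := by
  set C0 := W ⊓ Subgroup.centralizer (B0 : Set H) with hC0
  set C1 := W ⊓ Subgroup.centralizer (B : Set H) with hC1
  have hv0 : v ∈ C0 := ⟨hv, Subgroup.mem_centralizer_iff.2 fun b hb => (hfix b hb).eq⟩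
  have h10 : C1 ≤ C0 := inf_le_inf_left _ (Subgroup.centralizer_le (SetLike.coe_subset_coe.2 hB0))
  have hle : Nat.card C0 ≤ p * Nat.card C1 := by
    have h := hB.offNum_le hWT hWc B0 hB0
    rw [H34.offNum, H34.offNum, ← hC0, ← hC1] at h
    have e := Subgroup.relIndex_mul_relIndex ⊥ B0 B bot_le hB0
    rw [Subgroup.relIndex_bot_left, Subgroup.relIndex_bot_left, hidx] at e
    rw [← e, mul_assoc] at h
    exact Nat.le_of_mul_le_mul_left h Nat.card_pos
  have hC0p : IsPGroup p C0 := hT.to_le (inf_le_left.trans hWT)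
  have hrel : C1.relIndex C0 ∣ p := by
    obtain ⟨k, hk⟩ := (hC0p.index (C1.subgroupOf C0))
    have e := Subgroup.relIndex_mul_relIndex ⊥ C1 C0 bot_le h10
    rw [Subgroup.relIndex_bot_left, Subgroup.relIndex_bot_left] at e
    have hle' : C1.relIndex C0 ≤ p := by
      rw [← e, mul_comm p] at hle
      exact Nat.le_of_mul_le_mul_left hle Nat.card_pos
    have hk' : C1.relIndex C0 = p ^ k := hk
    rw [hk'] at hle' ⊢
    nth_rw 2 [← pow_one p] at hle' ⊢
    exact pow_dvd_pow p ((Nat.pow_le_pow_iff_right hp.out.one_lt).1 hle')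
  haveI hn : (C1.subgroupOf C0).Normal := ⟨fun d hd e => by
    have h : e * d * e⁻¹ = d := Subtype.ext (mul_inv_eq_iff_eq_mul.2 (hWc _ e.2.1 _ d.2.1).eq)
    rw [h]; exact hd⟩
  have hfixC1 : ∀ c ∈ C1, ∀ b ∈ B, Commute b c := fun c hc b hb =>
    Subgroup.mem_centralizer_iff.1 hc.2 b hb
  have hpow : v ^ p ∈ C1 := by
    obtain ⟨m, hm⟩ := hrel
    have h : (⟨v, hv0⟩ : C0) ^ (C1.subgroupOf C0).index ∈ C1.subgroupOf C0 :=
      Subgroup.pow_index_mem _ _
    have h' : v ^ C1.relIndex C0 ∈ C1 := h
    rw [hm, pow_mul]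
    exact pow_mem h' m
  refine ⟨fun b hb => hfixC1 _ hpow b hb, fun a ha b hb => hfixC1 _ ?_ b hb⟩
  have hBn : B ≤ Subgroup.normalizer (C0 : Set H) := by
    intro b hb
    rw [Subgroup.mem_normalizer_iff]
    intro x
    have hbW := Subgroup.mem_normalizer_iff.1 (hTW (hB.1 hb))
    have hbc : ∀ d ∈ B0, Commute b d := fun d hd => hB.2.1 b hb d (hB0 hd)
    simp only [hC0, Subgroup.mem_inf, Subgroup.mem_centralizer_iff, SetLike.mem_coe]
    refine and_congr (hbW x) ⟨fun h d hd => ?_, fun h d hd => ?_⟩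
    · calc d * (b * x * b⁻¹) = b * (d * x) * b⁻¹ := by
            rw [← mul_assoc, ← mul_assoc, ← mul_assoc, (hbc d hd).eq]
        _ = b * x * b⁻¹ * (b * d * b⁻¹) := by rw [h d hd]; group
        _ = b * x * b⁻¹ * d := by rw [(hbc d hd).eq, mul_inv_cancel_right]
    · have h1 := h d hd
      calc d * x = b⁻¹ * (b * d * x * b⁻¹) * b := by group
        _ = b⁻¹ * (d * (b * x * b⁻¹)) * b := by rw [(hbc d hd).eq]; group
        _ = b⁻¹ * (b * x * b⁻¹ * d) * b := by rw [h1]
        _ = x * (b⁻¹ * (d * b)) := by group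
        _ = x * d := by rw [← (hbc d hd).eq, inv_mul_cancel_left]
  set X := ⁅C0, B⁆ with hX
  have hXC0 : X ≤ C0 := Subgroup.le_normalizer_iff_commutator_le_left.1 hBn
  suffices hXC1 : X ≤ C1 by
    apply hXC1
    rw [hX, Subgroup.commutator_comm]
    exact Subgroup.commutator_mem_commutator ha hv0
  have hdvd : (X ⊔ C1).relIndex C0 ∣ p :=
    (Subgroup.relIndex_dvd_of_le_left C0 (le_sup_right : C1 ≤ X ⊔ C1)).trans hrel
  rcases (Nat.dvd_prime hp.out).1 hdvd with h | h
  · have hC0le : C0 ≤ X ⊔ C1 := Subgroup.relIndex_eq_one.1 h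
    have hle2 : X ≤ ⁅X, B⁆ := by
      nth_rw 1 [hX]
      refine Subgroup.commutator_le.2 fun x hx d hd => ?_
      have hnm : X ≤ Subgroup.normalizer (C1 : Set H) := fun y hy =>
        Subgroup.centralizer_le_normalizer _
          (Subgroup.mem_centralizer_iff.2 fun c hc => (hWc c hc.1 y (hXC0 hy).1).eq)
      obtain ⟨y, hy, c, hc, rfl⟩ : x ∈ ((X : Set H) * (C1 : Set H)) := by
        rw [← Subgroup.coe_mul_of_left_le_normalizer_right _ _ hnm]; exact hC0le hx
      have hcd : Commute c d := (hfixC1 c hc d hd).symm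
      have e : ⁅y * c, d⁆ = ⁅y, d⁆ := by
        calc ⁅y * c, d⁆ = y * (c * d) * c⁻¹ * y⁻¹ * d⁻¹ := by
              simp only [commutatorElement_def]; group
          _ = y * (d * c) * c⁻¹ * y⁻¹ * d⁻¹ := by rw [hcd.eq]
          _ = ⁅y, d⁆ := by simp only [commutatorElement_def]; group
      rw [e]; exact Subgroup.commutator_mem_commutator hy hd
    have hXbot : X = ⊥ := by
      by_contra hne
      exact (H20.commutator_lt_of_isPGroup (hC0p.to_le hXC0) (hT.to_le hB.1)
        (by rw [hX]; exact Subgroup.normalizer_commutator_ge_right C0 B) hne).not_ge hle2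
    rw [hXbot]; exact bot_le
  · -- equal orders
    have e1 := Subgroup.relIndex_mul_relIndex ⊥ C1 C0 bot_le h10
    have e2 := Subgroup.relIndex_mul_relIndex ⊥ (X ⊔ C1) C0 bot_le (sup_le hXC0 h10)
    rw [Subgroup.relIndex_bot_left, Subgroup.relIndex_bot_left] at e1 e2
    rw [h] at e2
    have hle' : Nat.card ↥(X ⊔ C1) ≤ Nat.card C1 := by
      refine Nat.le_of_mul_le_mul_right ?_ hp.out.pos
      rw [e2, ← e1]
      exact Nat.mul_le_mul_left _ (Nat.le_of_dvd hp.out.pos hrel)
    rw [Subgroup.eq_of_le_of_card_ge le_sup_right hle']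
    exact le_sup_left

end MaxAb

section Transvection

variable {Y : Type*} [Group Y] [Finite Y] {M : Type*} [AddCommGroup M] [Finite M]

/-- A transvection in a group without non-trivial normal 2-subgroups gives a section `S₃`. -/
theorem involves_s3_of_transvection (ρ : Y →* AddMonoid.End M) (hρ : Function.Injective ρ)
    (hM : ∀ m : M, ∃ k : ℕ, 2 ^ k • m = 0)
    (hO : ∀ N : Subgroup Y, N.Normal → IsPGroup 2 N → N = ⊥) {b : Y} (hb1 : b ≠ 1) (hb2 : b * b = 1)
    (hidx : Nat.card M ≤ 2 * Nat.card (H23.fixedAdd ρ (Subgroup.zpowers b))) :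
    Cfsg.Involves (Equiv.Perm (Fin 3)) Y := by
  classical
  haveI : Fact (Nat.Prime 2) := ⟨Nat.prime_two⟩
  obtain ⟨g, hg⟩ : ∃ g : Y, ¬ IsPGroup 2 ↥(Subgroup.closure ({b, g * b * g⁻¹} : Set Y)) := by
    by_contra h
    push Not at h
    obtain ⟨N, hNn, hNp, hbN⟩ := H28.baer_suzuki_element (p := 2) b h
    rw [hO N hNn hNp, Subgroup.mem_bot] at hbN
    exact hb1 hbN
  set b' := g * b * g⁻¹ with hb'
  have hb'2 : b' * b' = 1 := by
    calc b' * b' = g * (b * b) * g⁻¹ := by rw [hb']; group
      _ = 1 := by rw [hb2]; group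
  set d := b * b' with hd
  have hinv : b⁻¹ = b := inv_eq_of_mul_eq_one_left hb2
  have hinv' : b'⁻¹ = b' := inv_eq_of_mul_eq_one_left hb'2
  have hbd : b * d * b⁻¹ = d⁻¹ := by
    rw [hd, hinv, mul_inv_rev, hinv, hinv', ← mul_assoc b b, hb2, one_mul]
  obtain ⟨k, n, hn, hord⟩ := Nat.exists_eq_pow_mul_and_not_dvd (orderOf_pos d).ne' 2 (by norm_num)
  set r := d ^ 2 ^ k with hr
  have hrn : r ^ n = 1 := by rw [hr, ← pow_mul, ← hord, pow_orderOf_eq_one]
  have hr1 : r ≠ 1 := by
    intro h
    apply hg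
    have hdp : IsPGroup 2 (Subgroup.zpowers d) := by
      obtain ⟨i, -, hi⟩ := (Nat.dvd_prime_pow Nat.prime_two).1 (orderOf_dvd_of_pow_eq_one h)
      exact IsPGroup.of_card (by rw [Nat.card_zpowers, hi])
    have hbp : IsPGroup 2 (Subgroup.zpowers b) := by
      obtain ⟨i, -, hi⟩ := (Nat.dvd_prime_pow Nat.prime_two).1
        (orderOf_dvd_of_pow_eq_one (show b ^ 2 ^ 1 = 1 by rw [pow_one, pow_two, hb2]))
      exact IsPGroup.of_card (by rw [Nat.card_zpowers, hi])
    have hnorm : Subgroup.zpowers b ≤ Subgroup.normalizer (Subgroup.zpowers d : Set Y) := by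
      rw [Subgroup.zpowers_le, Subgroup.mem_normalizer_iff_map_conj_eq, MonoidHom.map_zpowers]
      show Subgroup.zpowers (b * d * b⁻¹) = _
      rw [hbd, Subgroup.zpowers_inv]
    refine (hbp.to_sup_of_normal_right' hdp hnorm).to_le ((Subgroup.closure_le _).2 ?_)
    intro y hy
    simp only [Set.mem_insert_iff, Set.mem_singleton_iff] at hy
    rcases hy with hy | hy <;> rw [hy]
    · exact (le_sup_left : _ ≤ Subgroup.zpowers b ⊔ Subgroup.zpowers d) (Subgroup.mem_zpowers _)
    · have : b' = b * d := by rw [hd, ← mul_assoc, hb2, one_mul]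
      rw [this]
      exact mul_mem ((le_sup_left : _ ≤ Subgroup.zpowers b ⊔ Subgroup.zpowers d) (Subgroup.mem_zpowers _))
        ((le_sup_right : _ ≤ Subgroup.zpowers b ⊔ Subgroup.zpowers d) (Subgroup.mem_zpowers _))
  -- the two hyperplanes
  set C₁ := H23.fixedAdd ρ (Subgroup.zpowers b) with hC₁
  set C₂ := H23.fixedAdd ρ (Subgroup.zpowers b') with hC₂
  set C := C₁ ⊓ C₂ with hC
  have hfix : ∀ (y : Y) (m : M), m ∈ H23.fixedAdd ρ (Subgroup.zpowers y) → ρ y m = m :=
    fun y m hm => H23.mem_fixedAdd.1 hm y (Subgroup.mem_zpowers y)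
  have hrC : ∀ c ∈ C, ρ r c = c := by
    intro c hc
    have h : ∀ i : ℕ, ρ (d ^ i) c = c := by
      intro i
      induction i with
      | zero => rw [pow_zero, map_one]; rfl
      | succ i ih =>
        rw [pow_succ', map_mul, hd, map_mul]
        show ρ b (ρ b' (ρ (d ^ i) c)) = c
        rw [ih, hfix b' c hc.2, hfix b c hc.1]
    exact h _
  have hC₂card : Nat.card C₁ = Nat.card C₂ := by
    refine Nat.card_congr
      { toFun := fun m => ⟨ρ g m, H23.mem_fixedAdd.2 ?_⟩
        invFun := fun m => ⟨ρ g⁻¹ m, H23.mem_fixedAdd.2 ?_⟩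
        left_inv := fun m => Subtype.ext (by
          show ρ g⁻¹ (ρ g m) = (m : M)
          rw [← rho_mul_apply, inv_mul_cancel, map_one]; rfl)
        right_inv := fun m => Subtype.ext (by
          show ρ g (ρ g⁻¹ m) = (m : M)
          rw [← rho_mul_apply, mul_inv_cancel, map_one]; rfl) }
    · rintro _ ⟨i, rfl⟩
      show ρ (b' ^ i) (ρ g m) = ρ g m
      rw [← rho_mul_apply, hb', conj_zpow, inv_mul_cancel_right, map_mul]
      show ρ g (ρ (b ^ i) m) = _
      rw [H23.mem_fixedAdd.1 m.2 _ (Subgroup.zpow_mem_zpowers b i)]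
    · rintro _ ⟨i, rfl⟩
      show ρ (b ^ i) (ρ g⁻¹ m) = ρ g⁻¹ m
      rw [← rho_mul_apply,
        show b ^ i * g⁻¹ = g⁻¹ * (g * b ^ i * g⁻¹) by group, ← conj_zpow, map_mul]
      show ρ g⁻¹ (ρ ((g * b * g⁻¹) ^ i) m) = _
      rw [← hb', H23.mem_fixedAdd.1 m.2 _ (Subgroup.zpow_mem_zpowers b' i)]
  have hidx4 : C.index ≤ 4 := by
    have h2 : ∀ A : AddSubgroup M, Nat.card M ≤ 2 * Nat.card A → A.index ≤ 2 := fun A hA => by
      rw [← A.index_mul_card] at hA
      exact Nat.le_of_mul_le_mul_right hA Nat.card_pos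
    calc C.index ≤ C₁.index * C₂.index := AddSubgroup.index_inf_le
      _ ≤ 2 * 2 := Nat.mul_le_mul (h2 C₁ hidx) (h2 C₂ (hC₂card ▸ hidx))
  have hrpow : ∀ (i : ℕ) (m : M), ρ r m - m ∈ C → ρ (r ^ i) m - m ∈ C := by
    intro i m hm
    induction i with
    | zero =>
      rw [pow_zero, map_one]
      show m - m ∈ C
      rw [sub_self]; exact zero_mem C
    | succ i ih =>
      rw [pow_succ', map_mul]
      show ρ r (ρ (r ^ i) m) - m ∈ C
      have : ρ r (ρ (r ^ i) m) - m = ρ r (ρ (r ^ i) m - m) + (ρ r m - m) := by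
        rw [map_sub]; abel
      rw [this, hrC _ ih]
      exact add_mem ih hm
  have hodd : Odd n := Nat.odd_iff.2 (by omega)
  have hcube : ∀ m : M, ρ (r ^ 3) m - m ∈ C := by
    intro m
    by_cases hm : ρ r m - m ∈ C
    · exact hrpow 3 m hm
    haveI : Fintype (M ⧸ C) := Fintype.ofFinite _
    by_contra h3
    let q : Fin 4 → M ⧸ C := fun i => ((ρ (r ^ (i : ℕ)) m : M) : M ⧸ C)
    have hmC : ∀ i : ℕ, ρ (r ^ i) m ∉ C := fun i hi => by
      apply hm
      have hj : ∀ j : ℕ, ρ (r ^ j) (ρ (r ^ i) m) = ρ (r ^ i) m := by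
        intro j
        induction j with
        | zero => rw [pow_zero, map_one]; rfl
        | succ j ih =>
          rw [pow_succ', map_mul]
          show ρ r (ρ (r ^ j) (ρ (r ^ i) m)) = _
          rw [ih, hrC _ hi]
      have h1 := hj (n * (i + 1) - i)
      rw [← rho_mul_apply, ← pow_add, Nat.sub_add_cancel (by
        calc i ≤ 1 * (i + 1) := by omega
          _ ≤ n * (i + 1) := Nat.mul_le_mul_right _ hodd.pos), pow_mul, hrn, one_pow, map_one] at h1
      have h2 : m = ρ (r ^ i) m := h1
      rw [h2, hrC _ hi, sub_self]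
      exact zero_mem C
    have hne : ∀ i, q i ≠ 0 := fun i h => hmC i ((QuotientAddGroup.eq_zero_iff _).1 h)
    have hinj : Function.Injective q := by
      have key : ∀ i j : ℕ, i < j → j ≤ 3 → ρ (r ^ j) m - ρ (r ^ i) m ∉ C := by
        intro i j hij hj hmem
        obtain ⟨l, rfl⟩ := Nat.exists_eq_add_of_le hij.le
        -- pull back to `m`
        have h1 : ρ (r ^ l) m - m ∈ C := by
          have hshift : ∀ (t : ℕ) (c : M), c ∈ C → ρ (r ^ t) c = c := by
            intro t c hc
            induction t with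
            | zero => rw [pow_zero, map_one]; rfl
            | succ t ih =>
              rw [pow_succ', map_mul]
              show ρ r (ρ (r ^ t) c) = c
              rw [ih, hrC c hc]
          have h2 := hshift (n * (i + 1) - i) _ hmem
          rw [map_sub, ← rho_mul_apply, ← rho_mul_apply,
            ← pow_add, ← pow_add] at h2
          have hle : i ≤ n * (i + 1) := by
            calc i ≤ 1 * (i + 1) := by omega
              _ ≤ n * (i + 1) := Nat.mul_le_mul_right _ hodd.pos
          rw [show n * (i + 1) - i + (i + l) = n * (i + 1) + l by omega,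
            Nat.sub_add_cancel hle, pow_add, pow_mul, hrn, one_pow, one_mul, map_one] at h2
          have h4 : ρ (r ^ (i + l)) m - ρ (r ^ i) m = ρ (r ^ l) m - m := h2.symm
          rwa [h4] at hmem
        have hl : l = 1 ∨ l = 2 ∨ l = 3 := by omega
        rcases hl with rfl | rfl | rfl
        · exact hm (by rwa [pow_one] at h1)
        · apply hm
          have hrep : ∀ t : ℕ, ρ (r ^ (2 * t)) m - m ∈ C := by
            intro t
            induction t with
            | zero =>
              rw [mul_zero, pow_zero, map_one]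
              show m - m ∈ C
              rw [sub_self]; exact zero_mem C
            | succ t ih =>
              rw [show 2 * (t + 1) = 2 * t + 2 by ring, pow_add, map_mul]
              show ρ (r ^ (2 * t)) (ρ (r ^ 2) m) - m ∈ C
              have : ρ (r ^ (2 * t)) (ρ (r ^ 2) m) - m =
                  ρ (r ^ (2 * t)) (ρ (r ^ 2) m - m) + (ρ (r ^ (2 * t)) m - m) := by
                rw [map_sub]; abel
              rw [this]
              refine add_mem ?_ ih
              have hs : ∀ t : ℕ, ρ (r ^ t) (ρ (r ^ 2) m - m) = ρ (r ^ 2) m - m := by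
                intro t
                induction t with
                | zero => rw [pow_zero, map_one]; rfl
                | succ t ih =>
                  rw [pow_succ', map_mul]
                  show ρ r (ρ (r ^ t) (ρ (r ^ 2) m - m)) = _
                  rw [ih, hrC _ h1]
              rw [hs]; exact h1
          obtain ⟨t, ht⟩ := hodd
          have := hrep (t + 1)
          rwa [show 2 * (t + 1) = n + 1 by omega, pow_succ, hrn, one_mul] at this
        · exact h3 h1
      intro i j hij
      by_contra hne'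
      rcases lt_or_gt_of_ne (fun h => hne' (Fin.ext h)) with h | h
      · exact key i j h (by omega) (by
          have := (QuotientAddGroup.eq (s := C)).1 hij
          rwa [neg_add_eq_sub] at this)
      · exact key j i h (by omega) (by
          have := (QuotientAddGroup.eq (s := C)).1 hij.symm
          rwa [neg_add_eq_sub] at this)
    have hcard : Fintype.card (Fin 4) < Fintype.card (M ⧸ C) :=
      Fintype.card_lt_of_injective_of_notMem q hinj (b := 0) fun ⟨i, hi⟩ => hne i hi
    rw [← Nat.card_eq_fintype_card (α := M ⧸ C), ← AddSubgroup.index_eq_card, Fintype.card_fin] at hcard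
    omega
  have hr3 : r ^ 3 = 1 := by
    apply hρ
    rw [map_one]
    refine AddMonoidHom.ext fun m => ?_
    show ρ (r ^ 3) m = m
    set c := ρ (r ^ 3) m - m with hc
    have hcfix : ρ (r ^ 3) c = c := by
      have h := hrC c (hcube m)
      rw [pow_succ, pow_two, map_mul, map_mul]
      show ρ r (ρ r (ρ r c)) = c
      rw [h, h, h]
    have hrep : ∀ t : ℕ, ρ ((r ^ 3) ^ t) m = m + t • c := by
      intro t
      induction t with
      | zero => rw [pow_zero, map_one, zero_smul, add_zero]; rfl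
      | succ t ih =>
        rw [pow_succ', map_mul]
        show ρ (r ^ 3) (ρ ((r ^ 3) ^ t) m) = _
        rw [ih, map_add, map_nsmul, hcfix, succ_nsmul,
          show ρ (r ^ 3) m = m + c by rw [hc]; abel]
        abel
    have hn0 : n • c = 0 := by
      have := hrep n
      rw [← pow_mul, mul_comm, pow_mul, hrn, one_pow, map_one] at this
      exact left_eq_add.1 this
    obtain ⟨i, hi⟩ := hM c
    have h1 : addOrderOf c ∣ 1 := by
      rw [← ((Nat.coprime_two_left.2 hodd).pow_left i)]
      exact Nat.dvd_gcd (addOrderOf_dvd_of_nsmul_eq_zero hi) (addOrderOf_dvd_of_nsmul_eq_zero hn0)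
    have hc0 : c = 0 := AddMonoid.addOrderOf_eq_one_iff.1 (Nat.dvd_one.1 h1)
    exact sub_eq_zero.1 hc0
  have hbr : b * r * b⁻¹ = r⁻¹ := by rw [hr, ← conj_pow, hbd, inv_pow]
  exact H83.involves_s3_of_inverted hr3 hr1 hbr

end Transvection

end Cfsg.Agent.H72
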