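import Mathlib
import Cfsg.Prelude.Def_LocalStructure
import Cfsg.Agent.H72.PReduced
import Cfsg.Agent.H72.Kieler

/-!
The largest `p`-reduced normal subgroup of a parabolic subgroup, in the ambient group.
-/

set_option linter.style.haveILetI false
open scoped commutatorElement Pointwise

namespace Cfsg.Agent.H72

variable {H : Type*} [Group H] [Finite H] {p : ℕ} [Fact p.Prime]

omit [Finite H] [Fact p.Prime] in
theorem omegaOne_map_injective {G' : Type*} [Group G'] {f : H →* G'} (hf : Function.Injective f)
    (A : Subgroup H) : (omegaOne p A).map f = omegaOne p (A.map f) := by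
  rw [omegaOne, omegaOne, MonoidHom.map_closure]
  congr 1
  ext x
  constructor
  · rintro ⟨y, ⟨hy, hyp⟩, rfl⟩
    exact ⟨⟨y, hy, rfl⟩, by rw [← map_pow, hyp, map_one]⟩
  · rintro ⟨⟨y, hy, rfl⟩, hxp⟩
    exact ⟨y, ⟨hy, hf (by rw [map_pow, hxp, map_one])⟩, rfl⟩

omit [Finite H] [Fact p.Prime] in
theorem omegaOne_center_map_subtype {L : Subgroup H} (A : Subgroup L) :
    (omegaOne p (A ⊓ Subgroup.centralizer (A : Set L))).map L.subtype =
      omegaOne p (A.map L.subtype ⊓
        Subgroup.centralizer ((A.map L.subtype : Subgroup H) : Set H)) := by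
  rw [omegaOne_map_injective L.subtype_injective]
  congr 1
  ext x
  constructor
  · rintro ⟨y, ⟨hy, hyc⟩, rfl⟩
    exact ⟨⟨y, hy, rfl⟩, by
      rintro _ ⟨z, hz, rfl⟩
      rw [← map_mul, ← map_mul, hyc z hz]⟩
  · rintro ⟨⟨y, hy, rfl⟩, hxc⟩
    exact ⟨y, ⟨hy, fun z hz => L.subtype_injective (by
      rw [map_mul, map_mul]; exact hxc _ ⟨z, hz, rfl⟩)⟩, rfl⟩

omit [Finite H] [Fact p.Prime] in
theorem sylow_subtype_map (T : Sylow p H) {L : Subgroup H} (hTL : (T : Subgroup H) ≤ L) :
    ((T.subtype hTL : Sylow p L) : Subgroup L).map L.subtype = (T : Subgroup H) :=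
  Subgroup.map_subgroupOf_eq_of_le hTL

/-- `Ω₁(Z(S))` lies in the largest `p`-reduced normal subgroup, for a Sylow subgroup `S`. -/
theorem omegaOne_center_sylow_le_largest {L : Type*} [Group L] [Finite L]
    (hchar : Subgroup.centralizer (pCore p L : Set L) ≤ pCore p L) (S : Sylow p L) :
    omegaOne p ((S : Subgroup L) ⊓ Subgroup.centralizer ((S : Subgroup L) : Set L)) ≤
      largestPReduced p L := by
  set Z := omegaOne p ((S : Subgroup L) ⊓ Subgroup.centralizer ((S : Subgroup L) : Set L))
  have hZS : Z ≤ (S : Subgroup L) := (omegaOne_le p _).trans inf_le_left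
  have hcent : ∀ x : ↥(S : Subgroup L), x ∈ Subgroup.centralizer (Z.subgroupOf S : Set ↥(S : Subgroup L)) := by
    intro x
    rw [Subgroup.mem_centralizer_iff]
    intro z hz
    exact Subtype.ext ((mem_omegaOne_center_iff.1 hz).2.1 _ x.2).symm
  have hred : IsPReducedNormal p (Z.subgroupOf (S : Subgroup L)) := by
    refine isPReducedNormal_iff.2 ⟨⟨fun z hz s => ?_⟩, ?_, fun D _ _ x _ => hcent x⟩
    · have := Subgroup.mem_centralizer_iff.1 (hcent s) z hz
      rw [← this, mul_inv_cancel_right]
      exact hz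
    · have hel := isElementaryAbelian_omegaOne (p := p)
        (isMulCommutative_inf_centralizer (S : Subgroup L))
      refine ⟨⟨⟨fun a b => Subtype.ext ?_⟩⟩, fun a ha => Subtype.ext (by simpa using hel.2 _ ha)⟩
      exact Subgroup.mem_centralizer_iff.1 (hcent b) _ a.2
  have := (largestPReduced_spec hchar).2 _
    (isPReducedNormal_normalClosure hchar S le_rfl hred)
  rw [Subgroup.map_subgroupOf_eq_of_le hZS] at this
  exact Subgroup.le_normalClosure.trans this

omit [Finite H] [Fact p.Prime] in
theorem le_normalizer_largestPReducedOf {L : Subgroup H}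
    (hn : (largestPReduced p L).Normal) :
    L ≤ Subgroup.normalizer (largestPReducedOf p L : Set H) := by
  refine le_normalizer_of_conj fun g hg n hn' => ?_
  obtain ⟨y, hy, rfl⟩ := hn'
  exact ⟨⟨g, hg⟩ * y * ⟨g, hg⟩⁻¹, hn.conj_mem y hy _, by simp⟩

/-- Basic properties of `Y_L` for a parabolic subgroup `L` of characteristic `p`. -/
theorem parabolic_largest_spec (T : Sylow p H) {L : Subgroup H} (hTL : (T : Subgroup H) ≤ L)
    (hL : Subgroup.centralizer (pCore p L : Set L) ≤ pCore p L) :
    let Y := largestPReducedOf p L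
    let T₀ := (T : Subgroup H) ⊓ Subgroup.centralizer (Y : Set H)
    (∃ P : Sylow p ↥(Subgroup.centralizer (Y : Set H)),
        (P : Subgroup ↥(Subgroup.centralizer (Y : Set H))) =
          T₀.subgroupOf (Subgroup.centralizer (Y : Set H))) ∧
      pCoreOf p L ≤ T₀ ∧ T₀ ≤ L ⊓ Subgroup.centralizer (Y : Set H) ∧
      omegaOne p ((T : Subgroup H) ⊓ Subgroup.centralizer ((T : Subgroup H) : Set H)) ≤
        sylowCenterClosure p L ∧
      sylowCenterClosure p L ≤ Y ∧
      Y ≤ omegaOne p (pCoreOf p L ⊓ Subgroup.centralizer (pCoreOf p L : Set H)) := by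
  intro Y T₀
  obtain ⟨hred, hmax⟩ := largestPReduced_spec hL
  have hLY : L ≤ Subgroup.normalizer (Y : Set H) := le_normalizer_largestPReducedOf hred.1
  set C := Subgroup.centralizer (Y : Set H) with hC
  set N := Subgroup.normalizer (Y : Set H) with hN
  have hCN : C ≤ N := Subgroup.centralizer_le_normalizer _
  refine ⟨?_, le_inf ?_ ?_, inf_le_inf_right _ hTL, ?_, ?_, ?_⟩
  · haveI : (C.subgroupOf N).Normal :=
      Subgroup.normal_subgroupOf_of_le_normalizer (H20.le_normalizer_centralizer le_rfl)
    have hidx : ¬ p ∣ (T₀.subgroupOf C).index := by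
      show ¬ p ∣ T₀.relIndex C
      rw [show T₀.relIndex C = (T : Subgroup H).relIndex C from Subgroup.inf_relIndex_right _ _]
      have h3 := H22.sylow_not_dvd_relIndex_normal (T.subtype (hTL.trans hLY)) (C.subgroupOf N)
      rwa [Sylow.coe_subtype, Subgroup.relIndex_subgroupOf hCN] at h3
    exact ⟨((T.isPGroup'.to_le inf_le_left).comap_of_injective C.subtype
      C.subtype_injective).toSylow hidx, rfl⟩
  · exact (Subgroup.map_mono (pCore_le_sylow (T.subtype hTL))).trans (sylow_subtype_map T hTL).le
  · rintro _ ⟨q, hq, rfl⟩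
    rw [Subgroup.mem_centralizer_iff]
    rintro _ ⟨y, hy, rfl⟩
    exact congrArg Subtype.val
      (Subgroup.mem_centralizer_iff.1 (pRed_pCore_le_centralizer hred hq) y hy)
  · refine le_iSup_of_le (T.subtype hTL) ?_
    rw [sylow_subtype_map]
  · refine iSup_le fun S => ?_
    rw [← omegaOne_center_map_subtype]
    exact Subgroup.map_mono (omegaOne_center_sylow_le_largest hL S)
  · show _ ≤ omegaOne p ((pCore p L).map L.subtype ⊓
      Subgroup.centralizer ((pCore p L).map L.subtype : Set H))
    rw [← omegaOne_center_map_subtype]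
    exact Subgroup.map_mono (pRed_le_omegaOne hred hL)

/-- Comparison of `Y_L` and `Y_M` under `L C(Y_M) = M C(Y_M)`. -/
theorem largest_le_of_factorization (T : Sylow p H) {L M : Subgroup H}
    (hTL : (T : Subgroup H) ≤ L) (hTM : (T : Subgroup H) ≤ M)
    (hL : Subgroup.centralizer (pCore p L : Set L) ≤ pCore p L)
    (hM : Subgroup.centralizer (pCore p M : Set M) ≤ pCore p M)
    (heq : L ⊔ Subgroup.centralizer (largestPReducedOf p M : Set H) =
      M ⊔ Subgroup.centralizer (largestPReducedOf p M : Set H)) :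
    largestPReducedOf p M ≤ largestPReducedOf p L := by
  set Y := largestPReducedOf p M with hY
  obtain ⟨hred, -⟩ := largestPReduced_spec hM
  have hMY : M ≤ Subgroup.normalizer (Y : Set H) := le_normalizer_largestPReducedOf hred.1
  set C := Subgroup.centralizer (Y : Set H) with hC
  have hCN : C ≤ Subgroup.normalizer (Y : Set H) := Subgroup.centralizer_le_normalizer _
  have hNC : Subgroup.normalizer (Y : Set H) ≤ Subgroup.normalizer (C : Set H) :=
    H20.le_normalizer_centralizer le_rfl
  have hLY : L ≤ Subgroup.normalizer (Y : Set H) := le_sup_left.trans (heq.le.trans (sup_le hMY hCN))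
  obtain ⟨-, hQT, -, -, -, hYQ⟩ := parabolic_largest_spec T hTM hM
  have hYL : Y ≤ L :=
    hYQ.trans ((omegaOne_le p _).trans (inf_le_left.trans (hQT.trans (inf_le_left.trans hTL))))
  have hred' : IsPReducedNormal p (Y.subgroupOf L) := by
    refine isPReducedNormal_iff.2 ⟨Subgroup.normal_subgroupOf_of_le_normalizer hLY, ?_, ?_⟩
    · obtain ⟨hc, hp⟩ := hred.2.1
      refine ⟨⟨⟨fun a b => ?_⟩⟩, fun a ha => ?_⟩
      · obtain ⟨a', ha', hae⟩ := a.2
        obtain ⟨b', hb', hbe⟩ := b.2
        have h2 := congrArg (fun t : largestPReduced p M => ((t : M) : H))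
          (hc.is_comm.comm ⟨a', ha'⟩ ⟨b', hb'⟩)
        apply Subtype.ext; apply Subtype.ext
        simp only [Subgroup.coe_mul] at h2 ⊢
        rw [Subgroup.coe_subtype] at hae hbe
        rw [show ((a : L) : H) = a' from hae.symm, show ((b : L) : H) = b' from hbe.symm]
        exact h2
      · obtain ⟨a', ha', hae⟩ := ha
        apply Subtype.ext
        rw [SubmonoidClass.coe_pow, show (a : H) = a' from hae.symm, ← SubmonoidClass.coe_pow,
          hp a' ha']
        simp
    · intro D hD hmod
      set D' := D.map L.subtype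
      have hLD : L ≤ Subgroup.normalizer (D' : Set H) :=
        le_normalizer_of_conj fun g hg n hn => by
          obtain ⟨d, hd, rfl⟩ := hn
          exact ⟨⟨g, hg⟩ * d * ⟨g, hg⟩⁻¹, hD.conj_mem d hd _, by simp⟩
      set E := D' ⊔ C with hE
      have hNE : M ≤ Subgroup.normalizer (E : Set H) :=
        le_trans (le_sup_left.trans heq.ge) (sup_le
          (le_normalizer_sup hLD (hLY.trans hNC))
          (le_sup_right.trans Subgroup.le_normalizer))
      have hEsub : E ≤ M ⊔ C :=
        sup_le ((Subgroup.map_subtype_le D).trans (le_sup_left.trans heq.le)) le_sup_right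
      have hEmod : ∀ x ∈ E, ∃ k : ℕ, x ^ p ^ k ∈ C := by
        have hEN : E ≤ Subgroup.normalizer (Y : Set H) := hEsub.trans (sup_le hMY hCN)
        haveI : (C.subgroupOf (Subgroup.normalizer (Y : Set H))).Normal :=
          Subgroup.normal_subgroupOf_of_le_normalizer hNC
        have hmod1 : IsPMod p (D'.subgroupOf (Subgroup.normalizer (Y : Set H)))
            (C.subgroupOf (Subgroup.normalizer (Y : Set H))) := by
          rintro x ⟨d, hd, hde⟩
          obtain ⟨k, hk⟩ := hmod d hd
          refine ⟨k, ?_⟩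
          rw [Subgroup.mem_subgroupOf, SubmonoidClass.coe_pow, hC, Subgroup.mem_centralizer_iff]
          intro y hy
          rw [show (x : H) = (d : H) from hde.symm]
          exact congrArg Subtype.val (Subgroup.mem_centralizer_iff.1 hk ⟨y, hYL hy⟩ hy)
        intro x hx
        have hx' : (⟨x, hEN hx⟩ : ↥(Subgroup.normalizer (Y : Set H))) ∈
            D'.subgroupOf (Subgroup.normalizer (Y : Set H)) ⊔
              C.subgroupOf (Subgroup.normalizer (Y : Set H)) := by
          rw [← Subgroup.subgroupOf_sup (((Subgroup.map_subtype_le D)).trans hLY) hCN]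
          exact hx
        exact hmod1.sup _ hx'
      have hEM : E ⊓ M ≤ C := by
        have h1 := (isPReducedNormal_iff.1 hred).2.2 ((E ⊓ M).subgroupOf M)
          (Subgroup.normal_subgroupOf_of_le_normalizer
            (le_normalizer_inf_of hNE Subgroup.le_normalizer)) (by
            rintro ⟨x, hxM⟩ hx
            obtain ⟨k, hk⟩ := hEmod x hx.1
            refine ⟨k, ?_⟩
            rw [Subgroup.mem_centralizer_iff]
            intro y hy
            exact Subtype.ext (Subgroup.mem_centralizer_iff.1 hk (y : H) ⟨y, hy, rfl⟩))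
        rintro x hx
        rw [hC, Subgroup.mem_centralizer_iff]
        rintro _ ⟨y, hy, rfl⟩
        exact congrArg Subtype.val
          (Subgroup.mem_centralizer_iff.1 (h1 (x := ⟨x, hx.2⟩) hx) y hy)
      intro d hd
      have hdC : (d : H) ∈ C := by
        have hdE : (d : H) ∈ E := Subgroup.mem_sup_left ⟨d, hd, rfl⟩
        have hmul : ((M ⊔ C : Subgroup H) : Set H) = (M : Set H) * (C : Set H) :=
          Subgroup.coe_mul_of_left_le_normalizer_right M C (hMY.trans hNC)
        obtain ⟨m, hm, c, hc, hmc⟩ : (d : H) ∈ (M : Set H) * (C : Set H) := hmul ▸ hEsub hdE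
        have hmE : m ∈ E ⊓ M := by
          refine ⟨?_, hm⟩
          have := mul_mem hdE (inv_mem (Subgroup.mem_sup_right (S := D') hc))
          simp only at hmc
          rwa [← hmc, mul_inv_cancel_right] at this
        rw [← hmc]
        exact mul_mem (hEM hmE) hc
      rw [Subgroup.mem_centralizer_iff]
      intro y hy
      exact Subtype.ext (Subgroup.mem_centralizer_iff.1 hdC (y : H) hy)
  have := (largestPReduced_spec hL).2 _ hred'
  calc Y = (Y.subgroupOf L).map L.subtype := (Subgroup.map_subgroupOf_eq_of_le hYL).symm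
    _ ≤ _ := Subgroup.map_mono this

end Cfsg.Agent.H72
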