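import Cfsg.Agent.H72.ThompsonAFaithful

/-!
The Thompson normal `p`-complement theorem with `J(P)` generated by the abelian subgroups of
largest order, for `p` odd or `S₄`-free groups.
-/

set_option autoImplicit false

namespace Cfsg.Agent.H72

open Subgroup H23
open scoped IsMulCommutative

universe u

variable {G : Type u} [Group G] [Finite G] {p : ℕ} [hp : Fact p.Prime]

/-- Thompson's hypothesis for the abelian `J(P)`. -/
def ThompsonHypA (p : ℕ) {G : Type u} [Group G] (P : Subgroup G) : Prop :=
  HasNormalPComplement p (normalizer (thompsonSubgroupAOf P : Set G)) ∧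
    HasNormalPComplement p (centralizer ((P ⊓ centralizer (P : Set G) : Subgroup G) : Set G))

/-- Thompson's hypothesis passes to subgroups containing `P`. -/
theorem ThompsonHypA.subgroup {P : Subgroup G} (h : ThompsonHypA p P) {H : Subgroup G} (hPH : P ≤ H) :
    ThompsonHypA p (P.subgroupOf H) := by
  have hinj : Set.InjOn H.subtype (P.subgroupOf H : Set H) := H.subtype_injective.injOn
  constructor
  · refine hasNormalPComplement_of_map_le ((le_normalizer_map _).trans ?_) h.1
    rw [map_thompsonSubgroupAOf _ _ hinj, map_subgroupOf_eq_of_le hPH]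
  · refine hasNormalPComplement_of_map_le ?_ h.2
    rintro _ ⟨c, hc, rfl⟩
    refine mem_centralizer_iff.2 fun z hz => ?_
    rw [← map_subgroupOf_eq_of_le hPH, ← map_inf_centralizer _ _ hinj] at hz
    obtain ⟨w, hw, rfl⟩ := hz
    rw [← map_mul, ← map_mul, mem_centralizer_iff.1 hc w hw]

/-- Thompson's hypothesis passes to quotients by normal `p'`-subgroups. -/
theorem ThompsonHypA.quotient {P : Subgroup G} (hP : IsPGroup p P) (h : ThompsonHypA p P)
    (N : Subgroup G) [N.Normal] (hN : ¬ p ∣ Nat.card N) :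
    ThompsonHypA p (P.map (QuotientGroup.mk' N)) := by
  have hinj := injOn_mk_of_isPGroup N hN hP
  constructor
  · rw [← map_thompsonSubgroupAOf _ _ hinj,
      normalizer_map_mk N hN (hP.to_le (thompsonSubgroupAOf_le P))]
    exact hasNormalPComplement_map _ h.1
  · rw [← map_inf_centralizer _ _ hinj,
      centralizer_map_mk N hN (hP.to_le inf_le_left)]
    exact hasNormalPComplement_map _ h.2

/-- One step of the induction for Thompson's theorem. -/
theorem thompsonA_step (hS4 : p ≠ 2 ∨ ¬ Involves (Equiv.Perm (Fin 4)) G) (P : Sylow p G) (h : ThompsonHypA p (P : Subgroup G))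
    (IH : ∀ (H : Type u) [Group H] [Finite H], Nat.card H < Nat.card G →
      (p ≠ 2 ∨ ¬ Involves (Equiv.Perm (Fin 4)) H) →
      ∀ Q : Sylow p H, ThompsonHypA p (Q : Subgroup H) → HasNormalPComplement p H) :
    HasNormalPComplement p G := by
  by_contra hnot
  have IHsub : ∀ H : Subgroup G, H ≠ ⊤ → ∀ Q : Sylow p H, ThompsonHypA p (Q : Subgroup H) →
      HasNormalPComplement p H := fun H hH => IH H (H19.card_lt_of_ne_top H hH) (hS4.imp_right fun h4 hi => h4 (H83.involves_of_subgroup hi))
  -- `O_{p'}(G) = 1`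
  have hcore : ∀ N : Subgroup G, N.Normal → ¬ p ∣ Nat.card N → N = ⊥ := by
    intro N hNn hN
    by_contra hne
    refine hnot (hasNormalPComplement_of_quotient N hN ?_)
    refine IH (G ⧸ N) (H19.card_quotient_lt N hne) (hS4.imp_right fun h4 hi => h4 (H83.involves_of_quotient hi))
      (P.mapSurjective (QuotientGroup.mk'_surjective N)) ?_
    exact h.quotient P.2 N hN
  have hproper : ∀ H : Subgroup G, (P : Subgroup G) ≤ H → H ≠ ⊤ → HasNormalPComplement p H := by
    intro H hPH hH
    exact IHsub H hH (P.subtype hPH) (by rw [Sylow.coe_subtype]; exact h.subgroup hPH)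
  have hloc : ∀ (S H : Subgroup G), IsSylowIn p S H → S ≠ ⊥ → H ≠ ⊤ →
      (∀ W : Subgroup G, W ≤ S → W ≠ ⊥ → normalizer (S : Set G) ≤ normalizer (W : Set G) →
        HasNormalPComplement p (normalizer (W : Set G))) → HasNormalPComplement p H := by
    intro S H hS hSne hH hW
    have hyp : ThompsonHypA p S :=
      ⟨hW _ (thompsonSubgroupAOf_le S) (thompsonSubgroupAOf_ne_bot hSne)
          (normalizer_le_normalizer_thompsonSubgroupAOf S),
        hasNormalPComplement_mono (centralizer_le_normalizer _)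
          (hW _ inf_le_left (inf_centralizer_ne_bot hS.2.1 hSne)
            (normalizer_le_normalizer_inf_centralizer S))⟩
    have hH' : IsPGroup p (S.subgroupOf H) := hS.2.1.of_equiv (subgroupOfEquivOfLe hS.1).symm
    exact IHsub H hH (hH'.toSylow hS.2.2) (hyp.subgroup hS.1)
  -- `U = O_p(G)`
  set U := pCore p G with hU_def
  have hUn : U.Normal := H19.pCore_normal p G
  have hU1 : U ≠ ⊥ := by
    obtain ⟨U', hU'n, hU'p, hU'⟩ := exists_normal_pSubgroup P hproper hloc hnot
    exact fun e => hU' (le_bot_iff.1 (e ▸ H19.le_pCore hU'n hU'p))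
  have hneU : U ≠ (P : Subgroup G) := by
    intro e
    apply hnot
    have hJ : normalizer (thompsonSubgroupAOf (P : Subgroup G) : Set G) = ⊤ := by
      rw [eq_top_iff, ← normalizer_eq_top_iff.2 hUn, e]
      exact normalizer_le_normalizer_thompsonSubgroupAOf _
    have h1 := h.1
    rw [hJ] at h1
    exact (H22.hasNormalPComplement_congr Subgroup.topEquiv).1 h1
  have hφs : Function.Surjective (QuotientGroup.mk' U) := QuotientGroup.mk'_surjective U
  set P' : Sylow p (G ⧸ U) := P.mapSurjective hφs
  have hP'ne : (P' : Subgroup (G ⧸ U)) ≠ ⊥ := by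
    intro e
    refine hneU (le_antisymm (H19.pCore_le_sylow P) fun x hx => ?_)
    have h1 : QuotientGroup.mk' U x ∈ (P' : Subgroup (G ⧸ U)) := mem_map_of_mem _ hx
    rw [e, mem_bot] at h1
    exact (QuotientGroup.eq_one_iff x).1 h1
  have hquot : HasNormalPComplement p (G ⧸ U) := by
    have hl := fun X (hX : X ≠ ⊥) h1 h2 => hasNormalPComplement_normalizer_quotient P U
      (H19.pCore_quotient_pCore p) hproper (X := X) hX h1 h2
    refine IH (G ⧸ U) (H19.card_quotient_lt U hU1)
      (hS4.imp_right fun h4 hi => h4 (H83.involves_of_quotient hi)) P' ⟨?_, ?_⟩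
    · exact hl _ (thompsonSubgroupAOf_ne_bot hP'ne) (thompsonSubgroupAOf_le _)
        (le_normalizer_thompsonSubgroupAOf _)
    · exact hasNormalPComplement_mono (centralizer_le_normalizer _)
        (hl _ (inf_centralizer_ne_bot P'.2 hP'ne) inf_le_left
          (le_normalizer.trans (normalizer_le_normalizer_inf_centralizer _)))
  obtain ⟨hUp, hUP, hOp, hcent, hKp, hKcomm, hTQ, hdich⟩ := minimalNPC_of P hcore U hU_def hneU hproper hquot
  set φ := QuotientGroup.mk' U with hφ
  set K := pResidual p (G ⧸ U) with hK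
  have hKn : K.Normal := H22.pResidual_normal
  -- the module `V = Ω₁(⟨Z(P)^G⟩)`
  set ZP := (P : Subgroup G) ⊓ centralizer ((P : Subgroup G) : Set G) with hZP_def
  set V' := normalClosure (ZP : Set G) with hV'
  have hUc : (U ⊓ centralizer (U : Set G)).Normal := Subgroup.normal_inf_normal _ _
  have hV'U : V' ≤ U ⊓ centralizer (U : Set G) := by
    refine normalClosure_le_normal fun z hz => ?_
    have h1 : z ∈ centralizer (U : Set G) :=
      centralizer_le (show (U : Set G) ⊆ (P : Subgroup G) from hUP) hz.2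
    exact ⟨hcent h1, h1⟩
  have hV'c : ∀ u ∈ U, ∀ v ∈ V', Commute u v := fun u hu v hv =>
    mem_centralizer_iff.1 (hV'U hv).2 u hu
  let V : Subgroup G :=
    { carrier := {v | v ∈ V' ∧ v ^ p = 1}
      one_mem' := ⟨one_mem _, one_pow p⟩
      mul_mem' := fun {a b} ha hb => ⟨mul_mem ha.1 hb.1, by
        rw [(hV'c a (hV'U ha.1).1 b hb.1).mul_pow, ha.2, hb.2, one_mul]⟩
      inv_mem' := fun {a} ha => ⟨inv_mem ha.1, by rw [inv_pow, ha.2, inv_one]⟩ }
  have hVn : V.Normal := ⟨fun v hv g =>
    ⟨normalClosure_normal.conj_mem v hv.1 g, by rw [conj_pow, hv.2, mul_one, mul_inv_cancel]⟩⟩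
  have hCV' : ∀ g : G, φ g ∈ K → (∀ v ∈ V', Commute g v) → g ∈ U := by
    intro g _ hgc
    rcases hdich (centralizer (V' : Set G)) Subgroup.normal_centralizer with hC | hC
    · exact hC (mem_centralizer_iff.2 fun v hv => (hgc v hv).eq.symm)
    exfalso
    have htop : centralizer (ZP : Set G) = ⊤ := by
      rw [eq_top_iff, ← hC]
      exact sup_le (centralizer_le (show (ZP : Set G) ⊆ V' from subset_normalClosure)) fun w hw =>
        mem_centralizer_iff.2 fun z hz => (mem_centralizer_iff.1 hz.2 w hw).symm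
    have h2 := h.2
    rw [← hZP_def, htop] at h2
    exact hnot ((H22.hasNormalPComplement_congr Subgroup.topEquiv).1 h2)
  have hfaith : ∀ g : G, (g : G ⧸ U) ∈ K → (∀ v ∈ V, Commute g v) → g ∈ U := by
    intro g hg hgc
    -- pass to the `p'`-part `g ^ (p ^ m)` of `g`
    obtain ⟨m, hm⟩ : ∃ m, (orderOf (g ^ p ^ m)).Coprime p := by
      refine ⟨(orderOf g).factorization p, ?_⟩
      rw [orderOf_pow, Nat.gcd_eq_right (Nat.ordProj_dvd _ _)]
      exact (Nat.coprime_ordCompl hp.out (orderOf_pos g).ne').symm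
    have h1 : g ^ p ^ m ∈ U := by
      refine hCV' _ (by rw [map_pow]; exact pow_mem hg _) fun v hv => ?_
      refine centralize_of_omega (V := V') (hUp.to_le (hV'U.trans inf_le_left))
        (fun a ha b hb => hV'c a (hV'U ha).1 b hb) hm
        (fun w hw => normalClosure_normal.conj_mem w hw _)
        (fun w hw hwp => (hgc w ⟨hw, hwp⟩).pow_left _) v hv
    have h2 : (g : G ⧸ U) ^ p ^ m = 1 := (QuotientGroup.eq_one_iff _).2 h1
    have h3 : (orderOf (g : G ⧸ U)).Coprime (p ^ m) :=
      (((hp.out.coprime_iff_not_dvd.2 hKp).coprime_dvd_right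
        (Subgroup.orderOf_dvd_natCard K hg)).symm.pow_right m)
    exact (QuotientGroup.eq_one_iff g).1 (orderOf_eq_one_iff.1
      (Nat.eq_one_of_dvd_coprimes h3 dvd_rfl (orderOf_dvd_of_pow_eq_one h2)))
  -- faithfulness of `G ⧸ U` on `V`
  have hfull : ∀ g : G, (∀ v ∈ V, Commute g v) → g ∈ U := by
    set C := centralizer (V : Set G) with hC
    have hCn : (C.map φ).Normal := Subgroup.normal_centralizer.map φ hφs
    have hbot : C.map φ ⊓ K = ⊥ := by
      rw [eq_bot_iff]
      rintro _ ⟨⟨c, hc, rfl⟩, hcK⟩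
      exact mem_bot.2 ((QuotientGroup.eq_one_iff c).2
        (hfaith c hcK fun v hv => (mem_centralizer_iff.1 hc v hv).symm))
    have hCp : IsPGroup p (C.map φ) := by
      obtain ⟨k, hk⟩ := H22.exists_index_pResidual_eq (G := G ⧸ U) (p := p)
      have h1 : Nat.card (C.map φ) ∣ p ^ k := by
        rw [← hk, ← hK, ← relIndex_bot_left (C.map φ), ← hbot, inf_relIndex_left]
        exact relIndex_dvd_index_of_normal K _
      obtain ⟨i, _, hi⟩ := (Nat.dvd_prime_pow hp.out).1 h1
      exact IsPGroup.of_card hi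
    have hle := H19.le_pCore hCn hCp
    rw [hOp, le_bot_iff] at hle
    intro g hg
    have h1 : φ g ∈ C.map φ := mem_map_of_mem φ (mem_centralizer_iff.2 fun v hv => (hg v hv).symm.eq)
    rw [hle, mem_bot] at h1
    exact (QuotientGroup.eq_one_iff g).1 h1
  -- conclusion
  have hJU : ∀ A, IsMaxAb (P : Subgroup G) A → A ≤ U := fun A hA => by
    refine isMaxAb_le_of_faithful (fun h2 => ?_) (P : Subgroup G) U V P.2 hUP
      (fun v hv => (hV'U hv.1).1) (fun u hu v hv => hV'c u hu v hv.1) (fun v hv => hv.2) K hKp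
      hfull hTQ hA
    subst h2
    refine H83.not_involves_s3_of_char_two ?_ (hS4.resolve_left fun h => h rfl)
    rw [← hU_def]; exact hcent
  apply hnot
  have htop : normalizer (thompsonSubgroupAOf (P : Subgroup G) : Set G) = ⊤ := by
    rw [eq_top_iff]
    intro g _
    refine mem_normalizer_thompsonSubgroupAOf fun A hA => ?_
    exact ((rconj_mono g (hJU A hA)).trans
      (rconj_eq_self ((normalizer_eq_top_iff.2 hUn).symm ▸ mem_top g)).le).trans hUP
  have h1 := h.1
  rw [htop] at h1
  exact (H22.hasNormalPComplement_congr Subgroup.topEquiv).1 h1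

/-- **Thompson's normal `p`-complement theorem**, abelian `J(P)`, for odd `p` or `S₄`-free groups. -/
theorem thompsonA_normal_p_complement {p : ℕ} [Fact p.Prime] (n : ℕ) :
    ∀ (G : Type u) [Group G] [Finite G], Nat.card G = n →
      (p ≠ 2 ∨ ¬ Involves (Equiv.Perm (Fin 4)) G) → ∀ P : Sylow p G,
      ThompsonHypA p (P : Subgroup G) → HasNormalPComplement p G := by
  induction n using Nat.strong_induction_on with
  | _ n ih =>
    intro G _ _ hn h4 P h
    exact thompsonA_step h4 P h fun H _ _ hlt h4' Q hQ => ih _ (hn ▸ hlt) H rfl h4' Q hQ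

end Cfsg.Agent.H72
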