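import Cfsg.Agent.H72.LocalFixed
import Cfsg.Agent.H23.Alperin

/-!
Glauberman's theorem: a central element of `N(J(S))` lying in `S` is weakly closed in `S`, for `p`
odd, `p`-th powers of central elements or `S₄`-free groups.
-/

set_option autoImplicit false
set_option linter.style.haveILetI false

namespace Cfsg.Agent.H72

open Subgroup
open Cfsg.Agent.H23 (IsSylowIn rconj)

universe u

variable {p : ℕ} [hp : Fact p.Prime] {G : Type u} [Group G] [Finite G]

/-- `x` and `z` are as in Glauberman's theorem, and `x` is central in `N(J(S))`. -/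
theorem conj_eq_self_of_center_normalizer (S : Sylow p G) (x z : G) (hxS : x ∈ (S : Subgroup G))
    (hz : z ∈ (S : Subgroup G)) (hzS : ∀ s ∈ (S : Subgroup G), Commute s z)
    (hcase : LocalCase p G x z)
    (hN : ∀ n ∈ normalizer (thompsonSubgroupAOf (S : Subgroup G) : Set G), Commute n x)
    {g : G} (hg : g * x * g⁻¹ ∈ (S : Subgroup G)) : g * x * g⁻¹ = x := by
  have hSx : ∀ s ∈ (S : Subgroup G), Commute s x := fun s hs =>
    hN s (le_normalizer_thompsonSubgroupAOf _ hs)
  let Claim : ℕ → Prop := fun d => ∀ Q : Subgroup G, Q ≤ (S : Subgroup G) → x ∈ Q →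
    IsSylowIn p ((S : Subgroup G) ⊓ normalizer (Q : Set G)) (normalizer (Q : Set G)) →
    Nat.card (S : Subgroup G) - Nat.card ((S : Subgroup G) ⊓ normalizer (Q : Set G) : Subgroup G) = d →
    ∀ n ∈ normalizer (Q : Set G), Commute n x
  -- fusion of large subgroups fixes `x` once the claim holds for large local subgroups
  have hfus : ∀ m : ℕ, (∀ d, d + m < Nat.card (S : Subgroup G) → Claim d) →
      ∀ (A : Subgroup G) (w : G), A ≤ (S : Subgroup G) → rconj w A ≤ (S : Subgroup G) →
        x ∈ A → m < Nat.card A → Commute w x := by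
    intro m hClaim A w hA hw
    refine H23.alperin_induction S (fun A w => x ∈ A → m < Nat.card A → Commute w x)
      (fun A B w hBA h hxB hm => h (hBA hxB) (lt_of_lt_of_le hm (card_le_of_le hBA)))
      (fun A w v h1 h2 hxA hm => ?_) (fun R n hn hsyl _ hxD hm => ?_) hA hw
    · have hw := h1 hxA hm
      refine hw.mul_left (h2 ?_ (by rwa [H23.card_rconj]))
      rw [H23.mem_rconj, hw.eq, mul_inv_cancel_right]
      exact hxA
    · set D := (S : Subgroup G) ⊓ (R : Subgroup G)
      have hDS : D ≤ (S : Subgroup G) := inf_le_left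
      have hle : Nat.card D ≤ Nat.card ((S : Subgroup G) ⊓ normalizer (D : Set G) : Subgroup G) :=
        card_le_of_le (le_inf hDS le_normalizer)
      have hleS : Nat.card ((S : Subgroup G) ⊓ normalizer (D : Set G) : Subgroup G) ≤
          Nat.card (S : Subgroup G) := card_le_of_le inf_le_left
      exact hClaim _ (by omega) D hDS hxD ⟨inf_le_right, S.2.to_le inf_le_left, hsyl⟩ rfl n hn
  have hClaim : ∀ d, Claim d := by
    intro d
    induction d using Nat.strong_induction_on with
    | _ d IH =>
    intro Q hQS hxQ hsyl hd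
    set H := normalizer (Q : Set G) with hH
    set T := (S : Subgroup G) ⊓ H with hT
    have hQT : Q ≤ T := le_inf hQS le_normalizer
    have hTS : T ≤ (S : Subgroup G) := inf_le_left
    have hzH : z ∈ H := centralizer_le_normalizer _
      (mem_centralizer_iff.2 fun q hq => (hzS q (hQS hq)).eq)
    -- the local hypothesis
    have hJ : ∀ n ∈ H, n ∈ normalizer (thompsonSubgroupAOf T : Set G) → Commute n x := by
      intro n _ hn
      rcases hTS.eq_or_lt with hTeq | hlt
      · exact hN n (hTeq ▸ hn)
      set J := thompsonSubgroupAOf T with hJdef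
      have hxT : x ∈ T := hQT hxQ
      have hxJ : x ∈ J := by
        obtain ⟨A, hA⟩ := exists_isMaxAb T
        have hxA : x ∈ A := by
          have hcomm : ∀ a ∈ A ⊔ zpowers x, ∀ b ∈ A ⊔ zpowers x, Commute a b := by
            have hle : A ⊔ zpowers x ≤ centralizer ((A ⊔ zpowers x : Subgroup G) : Set G) := by
              have h1 : ∀ {X Y : Subgroup G}, (∀ a ∈ X, ∀ b ∈ Y, Commute a b) →
                  X ≤ centralizer (Y : Set G) := fun h a ha =>
                mem_centralizer_iff.2 fun b hb => (h a ha b hb).symm.eq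
              have hAx : ∀ a ∈ A, ∀ b ∈ zpowers x, Commute a b := by
                rintro a ha _ ⟨i, rfl⟩
                exact (hSx a (hTS (hA.1 ha))).zpow_right i
              refine sup_le ?_ ?_
              · rw [le_centralizer_iff]
                exact sup_le (h1 hA.2.1) (h1 fun b hb a ha => (hAx a ha b hb).symm)
              · rw [le_centralizer_iff]
                exact sup_le (h1 hAx) (h1 fun a ha b hb => by
                  obtain ⟨i, rfl⟩ := ha; obtain ⟨j, rfl⟩ := hb
                  exact (Commute.refl x).zpow_zpow i j)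
            exact fun a ha b hb => mem_centralizer_iff.1 (hle hb) a ha
          have h := eq_of_le_of_card_ge le_sup_left
            (hA.2.2 _ (sup_le hA.1 (zpowers_le.2 hxT)) hcomm)
          exact h ▸ mem_sup_right (mem_zpowers x)
        exact hA.le_thompson hxA
      set K := normalizer (J : Set G) with hK
      have hT1 : T < (S : Subgroup G) ⊓ K := by
        refine lt_of_lt_of_le (H23.lt_inf_normalizer S.2 hlt) (inf_le_inf_left _ ?_)
        exact normalizer_le_normalizer_thompsonSubgroupAOf T
      obtain ⟨T', hT', hT1'⟩ := H23.exists_isSylowIn_ge (p := p)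
        (inf_le_right : (S : Subgroup G) ⊓ K ≤ K) (S.2.to_le inf_le_left)
      obtain ⟨R, hR⟩ := hT'.2.1.exists_le_sylow
      obtain ⟨w, hw⟩ := MulAction.exists_smul_eq G S R
      have hw' : rconj w T' ≤ (S : Subgroup G) := by
        intro y hy
        rw [H23.mem_rconj] at hy
        have h2 : w * y * w⁻¹ ∈ ((w • S : Sylow p G) : Subgroup G) := by rw [hw]; exact hR hy
        obtain ⟨s, hs, hsy⟩ := h2
        simp only [MulDistribMulAction.toMonoidEnd_apply, MulDistribMulAction.toMonoidHom_apply,
          MulAut.smul_def, MulAut.conj_apply, mul_left_inj, mul_right_inj] at hsy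
        exact hsy ▸ hs
      have hcard : Nat.card T < Nat.card ((S : Subgroup G) ⊓ K : Subgroup G) :=
        Nat.lt_of_le_of_ne (card_le_of_le hT1.le) fun e => hT1.ne (eq_of_le_of_card_ge hT1.le e.ge)
      have hcardS : Nat.card T ≤ Nat.card (S : Subgroup G) := card_le_of_le hTS
      have hwx : Commute w x := hfus (Nat.card T) (fun d' hd' => IH d' (by omega))
        ((S : Subgroup G) ⊓ K) w inf_le_left ((H23.rconj_mono w hT1').trans hw') ⟨hxS, hT1.le.trans
          inf_le_right hxT⟩ hcard
      have hJK : J ≤ T' := le_trans (le_inf ((thompsonSubgroupAOf_le T).trans hTS) le_normalizer) hT1'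
      have hK' : normalizer ((rconj w J : Subgroup G) : Set G) = rconj w K := (H23.rconj_normalizer w J).symm
      have hsyl' := hT'.rconj w
      rw [← hK'] at hsyl'
      have heq : (S : Subgroup G) ⊓ normalizer ((rconj w J : Subgroup G) : Set G) = rconj w T' :=
        hsyl'.eq_of_le (le_inf hw' hsyl'.1) inf_le_right (S.2.to_le inf_le_left)
      have hbig : Nat.card T < Nat.card (rconj w T') := by
        rw [H23.card_rconj]
        exact lt_of_lt_of_le hcard (card_le_of_le hT1')
      have hwS : Nat.card (rconj w T') ≤ Nat.card (S : Subgroup G) := card_le_of_le hw'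
      have hn' : w⁻¹ * n * w ∈ normalizer ((rconj w J : Subgroup G) : Set G) := by
        rw [hK', H23.mem_rconj]
        simpa [mul_assoc] using hn
      have hfix := IH (Nat.card (S : Subgroup G) - Nat.card (rconj w T')) (by omega) (rconj w J)
        ((H23.rconj_mono w hJK).trans hw')
        (by rw [H23.mem_rconj, hwx.eq, mul_inv_cancel_right]; exact hxJ)
        (by rw [heq]; exact hsyl') (by rw [heq]) _ hn'
      have := (hwx.mul_left hfix).mul_left hwx.inv_left
      simpa [mul_assoc] using this
    intro n hn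
    -- apply the local theorem to `H`
    have hp' : IsPGroup p (T.subgroupOf H) :=
      hsyl.2.1.of_equiv (subgroupOfEquivOfLe hsyl.1).symm
    set TH := hp'.toSylow hsyl.2.2 with hTH
    have hTHcoe : (TH : Subgroup H) = T.subgroupOf H := rfl
    have hQH : Q ≤ H := le_normalizer
    have hxO : (⟨x, hQH hxQ⟩ : H) ∈ pCore p H := by
      haveI : (Q.subgroupOf H).Normal := (Subgroup.normal_subgroupOf_iff_le_normalizer hQH).2 le_rfl
      exact H19.le_pCore inferInstance
        ((S.2.to_le hQS).of_equiv (subgroupOfEquivOfLe hQH).symm) hxQ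
    have hcaseH : LocalCase p H ⟨x, hQH hxQ⟩ ⟨z, hzH⟩ := by
      rcases hcase with ⟨h1, h2⟩ | h2 | ⟨h1, h2, h3⟩
      · exact Or.inl ⟨h1, Subtype.ext h2⟩
      · exact Or.inr (Or.inl (Subtype.ext h2))
      · exact Or.inr (Or.inr ⟨h1, Subtype.ext h2, fun hi => h3 (H83.involves_of_subgroup hi)⟩)
    have hmap := map_thompsonSubgroupAOf H.subtype (TH : Subgroup H) H.subtype_injective.injOn
    rw [hTHcoe, map_subgroupOf_eq_of_le hsyl.1] at hmap
    have key := local_fixed (Nat.card H) H rfl TH ⟨x, hQH hxQ⟩ ⟨z, hzH⟩ ⟨hz, hzH⟩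
      (fun t ht => Subtype.ext (hzS t ht.1).eq) hxO hcaseH
      (fun k hk => Subtype.ext (hJ k k.2 (by
        rw [← hmap, ← hTHcoe]
        exact le_normalizer_map _ ⟨k, hk, rfl⟩)).eq) ⟨n, hn⟩
    exact congrArg Subtype.val key.eq
  -- conclusion
  have hgS : rconj g⁻¹ (zpowers x) ≤ (S : Subgroup G) := by
    intro y hy
    rw [H23.mem_rconj, inv_inv] at hy
    obtain ⟨i, hi⟩ := hy
    have : y = g * x ^ i * g⁻¹ := by rw [show x ^ i = g⁻¹ * y * g from hi]; group
    rw [this, ← conj_zpow]
    exact zpow_mem hg i
  have h := hfus 0 (fun d _ => hClaim d) (zpowers x) g⁻¹ (zpowers_le.2 hxS) hgS (mem_zpowers x)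
    Nat.card_pos
  have h' : Commute g x := inv_inv g ▸ h.inv_left
  rw [h'.eq, mul_inv_cancel_right]

end Cfsg.Agent.H72
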